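/-
The group GL(2,3): enumeration, classes and finite facts checked by computation on tables.
-/
import Mathlib
import Cfsg.Agent.Lib.Involutions.GLTwoThree.RepData

set_option autoImplicit false

namespace CfsgLib.Involutions.GLTwoThree

/-- The group. -/
abbrev M : Type := GL (Fin 2) (ZMod 3)

/-- An index into the enumeration. -/
abbrev Idx : Type := Fin 48

/-- The product on indices. -/
def mulI (i j : Idx) : Idx := Fin.ofNat 48 ((mulList.getD i.val []).getD j.val 0)

/-- The inverse on indices. -/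
def invI (i : Idx) : Idx := Fin.ofNat 48 (invList.getD i.val 0)

/-- The class of an index. -/
def clsI (i : Idx) : Fin 8 := Fin.ofNat 8 (clsList.getD i.val 0)

/-- The matrix of an index. -/
def mat (i : Idx) : Matrix (Fin 2) (Fin 2) (ZMod 3) :=
  fun r c => (((entryList.getD i.val []).getD (2 * r.val + c.val) 0 : ℕ) : ZMod 3)

theorem mat_mul : ∀ i j : Idx, mat i * mat j = mat (mulI i j) := by decide +kernel

theorem mat_zero : mat 0 = 1 := by decide +kernel

theorem mulI_invI : ∀ i : Idx, mulI i (invI i) = 0 ∧ mulI (invI i) i = 0 := by decide +kernel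

/-- The element of an index. -/
def el (i : Idx) : M :=
  ⟨mat i, mat (invI i), by rw [mat_mul, (mulI_invI i).1, mat_zero],
    by rw [mat_mul, (mulI_invI i).2, mat_zero]⟩

theorem el_mul (i j : Idx) : el i * el j = el (mulI i j) := Units.ext (mat_mul i j)

theorem el_zero : el 0 = 1 := Units.ext mat_zero

theorem el_inv (i : Idx) : (el i)⁻¹ = el (invI i) := Units.ext rfl

/-- The base three code. -/
def code (a b c d : ZMod 3) : ℕ := 27 * a.val + 9 * b.val + 3 * c.val + d.val

/-- The index of an element. -/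
def idx (x : M) : Idx :=
  Fin.ofNat 48 (posList.getD (code (x.val 0 0) (x.val 0 1) (x.val 1 0) (x.val 1 1)) 0)

theorem mat_pos : ∀ a b c d : ZMod 3, a * d - b * c ≠ 0 →
    mat (Fin.ofNat 48 (posList.getD (code a b c d) 0)) 0 0 = a ∧
    mat (Fin.ofNat 48 (posList.getD (code a b c d) 0)) 0 1 = b ∧
    mat (Fin.ofNat 48 (posList.getD (code a b c d) 0)) 1 0 = c ∧
    mat (Fin.ofNat 48 (posList.getD (code a b c d) 0)) 1 1 = d := by decide +kernel

theorem el_idx (x : M) : el (idx x) = x := by
  have hdet : x.val 0 0 * x.val 1 1 - x.val 0 1 * x.val 1 0 ≠ 0 := by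
    rw [← Matrix.det_fin_two]
    exact ((Matrix.isUnit_iff_isUnit_det _).1 x.isUnit).ne_zero
  obtain ⟨h1, h2, h3, h4⟩ := mat_pos _ _ _ _ hdet
  refine Units.ext ?_
  ext r c
  fin_cases r <;> fin_cases c
  exacts [h1, h2, h3, h4]

theorem idx_el_aux : ∀ i : Idx,
    Fin.ofNat 48 (posList.getD (code (mat i 0 0) (mat i 0 1) (mat i 1 0) (mat i 1 1)) 0) = i := by
  decide +kernel

theorem idx_el (i : Idx) : idx (el i) = i := idx_el_aux i

/-- The enumeration. -/
def idxEquiv : M ≃ Idx := ⟨idx, el, el_idx, idx_el⟩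

theorem el_injective : Function.Injective el := idxEquiv.symm.injective

theorem el_surjective : Function.Surjective el := idxEquiv.symm.surjective

theorem idx_mul (x y : M) : idx (x * y) = mulI (idx x) (idx y) := by
  conv_lhs => rw [← el_idx x, ← el_idx y, el_mul, idx_el]

theorem idx_inv (x : M) : idx x⁻¹ = invI (idx x) := by
  conv_lhs => rw [← el_idx x, el_inv, idx_el]

theorem idx_one : idx 1 = 0 := by rw [← el_zero, idx_el]

theorem eq_iff (x y : M) : x = y ↔ idx x = idx y := idxEquiv.injective.eq_iff.symm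

theorem card_M : Nat.card M = 48 := by
  rw [Nat.card_congr idxEquiv, Nat.card_fin]

theorem card_filter (p : Idx → Prop) [DecidablePred p] :
    Nat.card {x : M // p (idx x)} = (Finset.univ.filter p).card := by
  refine (Nat.card_congr (idxEquiv.subtypeEquiv (q := p) fun x => Iff.rfl)).trans ?_
  rw [Nat.card_eq_fintype_card, Fintype.card_subtype]

/-- The class: `1`, `-1`, reflections, order 3, order 4, order 6, and the two classes of order 8. -/
def cls (x : M) : Fin 8 := clsI (idx x)

/-- The central involution. -/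
def negI : M := el 31

theorem idx_negI : idx negI = 31 := idx_el 31

/-- A representative of each class. -/
def repI (k : Fin 8) : Idx := ![0, 31, 1, 6, 4, 5, 2, 3] k

theorem clsI_repI : ∀ k : Fin 8, clsI (repI k) = k := by decide +kernel

theorem clsI_zero : clsI 0 = 0 ∧ clsI 31 = 1 := by decide +kernel

theorem clsI_eq_zero : ∀ i : Idx, clsI i = 0 → i = 0 := by decide +kernel

theorem clsI_conj : ∀ x c : Idx, clsI (mulI (mulI c x) (invI c)) = clsI x := by decide +kernel

theorem exists_conj_repI : ∀ x : Idx, ∃ c : Idx, mulI c x = mulI (repI (clsI x)) c := by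
  decide +kernel

theorem cls_conj (x c : M) : cls (c * x * c⁻¹) = cls x := by
  rw [cls, cls, idx_mul, idx_mul, idx_inv, clsI_conj]

theorem exists_conj_rep (x : M) : ∃ c : M, c * x * c⁻¹ = el (repI (cls x)) := by
  obtain ⟨c, hc⟩ := exists_conj_repI (idx x)
  refine ⟨el c, mul_inv_eq_iff_eq_mul.2 ?_⟩
  conv_lhs => rw [← el_idx x, el_mul, hc, ← el_mul]
  rfl

theorem card_clsI : ∀ k : Fin 8, (Finset.univ.filter fun x : Idx => clsI x = k).card =
    ![1, 1, 12, 8, 6, 8, 6, 6] k := by decide +kernel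

theorem negI_central (x : M) : negI * x = x * negI := by
  have h : ∀ i : Idx, mulI 31 i = mulI i 31 := by decide +kernel
  rw [eq_iff, idx_mul, idx_mul, idx_negI, h]

theorem eq_negI_of_central {z : M} (h : ∀ x : M, z * x = x * z) (h1 : z ≠ 1) : z = negI := by
  have key : ∀ z : Idx, (∀ x : Idx, mulI z x = mulI x z) → z ≠ 0 → z = 31 := by decide +kernel
  rw [eq_iff, idx_negI]
  refine key _ (fun x => ?_) fun e => h1 (by rw [eq_iff, idx_one, e])
  have := congrArg idx (h (el x))
  rwa [idx_mul, idx_mul, idx_el] at this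

theorem negI_ne_one : negI ≠ 1 := by rw [Ne, eq_iff, idx_negI, idx_one]; decide

theorem negI_sq : negI * negI = 1 := by rw [eq_iff, idx_mul, idx_negI, idx_one]; decide +kernel

/-- The classes whose elements have the central involution as a power. -/
def inD (k : Fin 8) : Bool := k != 0 && k != 2 && k != 3

/-- Powers on indices. -/
def powI (i : Idx) : ℕ → Idx
  | 0 => 0
  | n + 1 => mulI (powI i n) i

theorem idx_pow (x : M) (n : ℕ) : idx (x ^ n) = powI (idx x) n := by
  induction n with
  | zero => rw [pow_zero, idx_one]; rfl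
  | succ n ih => rw [pow_succ, idx_mul, ih]; rfl

theorem exists_pow_of_inD {x : M} (h : inD (cls x)) : ∃ k : ℕ, x ^ k = negI := by
  have key : ∀ i : Idx, inD (clsI i) → ∃ k : Fin 5, powI i k.val = 31 := by decide +kernel
  obtain ⟨k, hk⟩ := key _ h
  exact ⟨k, by rw [eq_iff, idx_pow, hk, idx_negI]⟩

theorem inD_of_pow {x : M} {k : ℕ} (h : x ^ k = negI) : inD (cls x) := by
  have key : ∀ i : Idx, powI i 24 = 0 ∧ ∀ k : Fin 24, powI i k.val = 31 → inD (clsI i) := by
    decide +kernel
  have h24 : x ^ 24 = 1 := by rw [eq_iff, idx_pow, idx_one]; exact (key _).1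
  refine (key _).2 ⟨k % 24, Nat.mod_lt _ (by norm_num)⟩ ?_
  rw [← idx_pow, ← pow_eq_pow_mod k h24, h, idx_negI]

theorem card_inverting {x : M} (h : inD (cls x)) :
    Nat.card {i : M // i ≠ 1 ∧ i * i = 1 ∧ i * x ≠ 1 ∧ i * x * (i * x) = 1} =
      ![0, 12, 0, 0, 4, 6, 0, 0] (cls x) := by
  have key : ∀ x : Idx, inD (clsI x) → (Finset.univ.filter fun i : Idx => i ≠ 0 ∧ mulI i i = 0 ∧
      mulI i x ≠ 0 ∧ mulI (mulI i x) (mulI i x) = 0).card =
      ![0, 12, 0, 0, 4, 6, 0, 0] (clsI x) := by decide +kernel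
  refine Eq.trans ?_ (key _ h)
  rw [← card_filter fun i => i ≠ 0 ∧ mulI i i = 0 ∧ mulI i (idx x) ≠ 0 ∧
    mulI (mulI i (idx x)) (mulI i (idx x)) = 0]
  exact Nat.card_congr (Equiv.subtypeEquivRight fun i => by simp only [ne_eq, eq_iff, idx_mul, idx_one])

/-- Membership in the Sylow 2-subgroup. -/
def inP (i : Idx) : Bool := sylList.getD i.val false

/-- Membership in the quaternion subgroup. -/
def inQ (i : Idx) : Bool := clsI i == 0 || clsI i == 1 || clsI i == 4

theorem inP_facts : (∀ x y : Idx, inP x → inP y → inP (mulI x y)) ∧ (∀ x : Idx, inP x → inP (invI x)) ∧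
    inP 0 ∧ inP 31 ∧ (Finset.univ.filter fun x : Idx => inP x).card = 16 ∧
    ∀ z : Idx, inP z → (∀ x : Idx, inP x → mulI z x = mulI x z) → z ≠ 0 → z = 31 := by
  decide +kernel

theorem inQ_facts : (∀ x y : Idx, inQ x → inQ y → inQ (mulI x y)) ∧ (∀ x : Idx, inQ x → inQ (invI x)) ∧
    inQ 0 ∧ (Finset.univ.filter fun x : Idx => inQ x).card = 8 ∧
    ∀ x : Idx, inQ x → mulI x x = 0 → x = 0 ∨ x = 31 := by
  decide +kernel

/-- The Sylow 2-subgroup. -/
def sylP : Subgroup M where
  carrier := {x | inP (idx x)}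
  mul_mem' {x y} hx hy := by
    show inP (idx (x * y)) = true
    rw [idx_mul]
    exact inP_facts.1 _ _ hx hy
  one_mem' := by
    show inP (idx 1) = true
    rw [idx_one]
    exact inP_facts.2.2.1
  inv_mem' {x} hx := by
    show inP (idx x⁻¹) = true
    rw [idx_inv]
    exact inP_facts.2.1 _ hx

/-- The quaternion subgroup. -/
def quatQ : Subgroup M where
  carrier := {x | inQ (idx x)}
  mul_mem' {x y} hx hy := by
    show inQ (idx (x * y)) = true
    rw [idx_mul]
    exact inQ_facts.1 _ _ hx hy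
  one_mem' := by
    show inQ (idx 1) = true
    rw [idx_one]
    exact inQ_facts.2.2.1
  inv_mem' {x} hx := by
    show inQ (idx x⁻¹) = true
    rw [idx_inv]
    exact inQ_facts.2.1 _ hx

theorem card_sylP : Nat.card sylP = 16 :=
  (card_filter fun i => inP i = true).trans inP_facts.2.2.2.2.1

theorem card_quatQ : Nat.card quatQ = 8 :=
  (card_filter fun i => inQ i = true).trans inQ_facts.2.2.2.1

theorem negI_mem_sylP : negI ∈ sylP := by
  show inP (idx negI) = true
  rw [idx_negI]
  exact inP_facts.2.2.2.1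

theorem center_sylP {z : M} (hz : z ∈ sylP) (h : ∀ x ∈ sylP, z * x = x * z) (h1 : z ≠ 1) :
    z = negI := by
  rw [eq_iff, idx_negI]
  refine inP_facts.2.2.2.2.2 _ hz (fun x hx => ?_) fun e => h1 (by rw [eq_iff, idx_one, e])
  have := congrArg idx (h (el x) (show inP (idx (el x)) = true by rw [idx_el]; exact hx))
  rwa [idx_mul, idx_mul, idx_el] at this

theorem quatQ_involution {x : M} (hx : x ∈ quatQ) (h : x * x = 1) : x = 1 ∨ x = negI := by
  rw [eq_iff, eq_iff, idx_negI, idx_one]
  refine inQ_facts.2.2.2.2 _ hx ?_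
  rw [← idx_mul, h, idx_one]

end CfsgLib.Involutions.GLTwoThree
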