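/-
Characters of GL(2,3): five generalized characters supported on the classes powering the centre.
-/
import Cfsg.Agent.Lib.Involutions.GLTwoThree.Group
import Cfsg.Agent.Lib.CharTheory.Inflation
import Cfsg.Agent.Lib.CharTheory.Linear
import Cfsg.Agent.Lib.CharTheory.Decomp
import Cfsg.Agent.Lib.Coherence.Virtual

set_option autoImplicit false

open Cfsg
open CfsgLib.CharTheory
open scoped ComplexConjugate

namespace CfsgLib.Involutions.GLTwoThree

/-- The embedding of the coefficient ring. -/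
noncomputable def toC : R →+* ℂ :=
  Zsqrtd.lift ⟨Complex.I * ((Real.sqrt 2 : ℝ) : ℂ), by
    rw [mul_mul_mul_comm, Complex.I_mul_I, ← Complex.ofReal_mul, Real.mul_self_sqrt zero_le_two]
    norm_num⟩

/-- The square root of minus two. -/
noncomputable def rt : ℂ := Complex.I * ((Real.sqrt 2 : ℝ) : ℂ)

theorem toC_mk (a b : ℤ) : toC ⟨a, b⟩ = a + b * rt := rfl

theorem toC_int (n : ℤ) : toC ⟨n, 0⟩ = n := by simp [toC_mk]

theorem rt_mul_rt : rt * rt = -2 := by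
  rw [rt, mul_mul_mul_comm, Complex.I_mul_I, ← Complex.ofReal_mul, Real.mul_self_sqrt zero_le_two]
  norm_num

theorem conj_rt : conj rt = -rt := by
  rw [rt, map_mul, Complex.conj_I, Complex.conj_ofReal]
  ring

theorem conj_toC (z : R) : conj (toC z) = toC (star z) := by
  obtain ⟨a, b⟩ := z
  rw [Zsqrtd.star_mk, toC_mk, toC_mk]
  simp [conj_rt]

/-- The entries as a matrix. -/
noncomputable def repFun (x : M) : Matrix (Fin 2) (Fin 2) ℂ :=
  let q := repList.getD (idx x).val (0, 0, 0, 0)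
  (!![q.1, q.2.1; q.2.2.1, q.2.2.2] : Matrix (Fin 2) (Fin 2) R).map toC

theorem repList_mul : ∀ i j : Idx,
    let p := repList.getD i.val (0, 0, 0, 0)
    let q := repList.getD j.val (0, 0, 0, 0)
    let r := repList.getD (mulI i j).val (0, 0, 0, 0)
    r.1 = p.1 * q.1 + p.2.1 * q.2.2.1 ∧ r.2.1 = p.1 * q.2.1 + p.2.1 * q.2.2.2 ∧
      r.2.2.1 = p.2.2.1 * q.1 + p.2.2.2 * q.2.2.1 ∧
      r.2.2.2 = p.2.2.1 * q.2.1 + p.2.2.2 * q.2.2.2 := by decide +kernel

theorem repList_trace : ∀ i : Idx,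
    (repList.getD i.val (0, 0, 0, 0)).1 + (repList.getD i.val (0, 0, 0, 0)).2.2.2 =
      ![(⟨2, 0⟩ : R), ⟨-2, 0⟩, ⟨0, 0⟩, ⟨-1, 0⟩, ⟨0, 0⟩, ⟨1, 0⟩, ⟨0, 1⟩, ⟨0, -1⟩] (clsI i) := by
  decide +kernel

/-- The faithful two-dimensional representation. -/
noncomputable def rep2 : M →* Matrix (Fin 2) (Fin 2) ℂ where
  toFun := repFun
  map_one' := by
    have h : repList.getD (idx (1 : M)).val (0, 0, 0, 0) = (1, 0, 0, 1) := by
      rw [idx_one]; decide +kernel
    simp only [repFun, h]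
    ext r c
    fin_cases r <;> fin_cases c <;> simp
  map_mul' x y := by
    obtain ⟨h1, h2, h3, h4⟩ := repList_mul (idx x) (idx y)
    rw [← idx_mul] at h1 h2 h3 h4
    simp only [repFun]
    rw [← Matrix.map_mul, Matrix.mul_fin_two]
    rw [h1, h2, h3, h4]

/-- A table gives a generalized character. -/
def Gen (v : Fin 8 → R) : Prop := IsGeneralizedCharacter M fun x => toC (v (cls x))

/-- The faithful character of degree two. -/
def v4 : Fin 8 → R := ![⟨2, 0⟩, ⟨-2, 0⟩, ⟨0, 0⟩, ⟨-1, 0⟩, ⟨0, 0⟩, ⟨1, 0⟩, ⟨0, 1⟩, ⟨0, -1⟩]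

/-- The sign of the determinant. -/
def v2 : Fin 8 → R := ![1, 1, -1, 1, 1, 1, -1, -1]

theorem gen_v4 : IsCharacter M fun x => toC (v4 (cls x)) := by
  refine ⟨2, (Matrix.toLinAlgEquiv' (R := ℂ)).toAlgHom.toMonoidHom.comp rep2, ?_⟩
  funext x
  show LinearMap.trace ℂ _ (Matrix.toLin' (repFun x)) = _
  rw [Matrix.trace_toLin'_eq, Matrix.trace_fin_two]
  simp only [repFun, Matrix.map_apply, Matrix.of_apply, Matrix.cons_val', Matrix.cons_val_zero,
    Matrix.cons_val_one, Matrix.cons_val_fin_one]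
  rw [← map_add, repList_trace]
  rfl

theorem gen_v5 : IsCharacter M fun x => toC (star (v4 (cls x))) := by
  have h : (fun x => toC (star (v4 (cls x)))) = fun x => conj (toC (v4 (cls x))) :=
    funext fun x => (conj_toC _).symm
  rw [h]
  exact isCharacter_conj gen_v4

/-- The sign. -/
def sgnI (i : Idx) : ℤˣ := if clsI i = 2 ∨ clsI i = 6 ∨ clsI i = 7 then -1 else 1

theorem sgnI_mul : ∀ i j : Idx, sgnI (mulI i j) = sgnI i * sgnI j := by decide +kernel

/-- The sign homomorphism. -/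
noncomputable def sgn : M →* ℂˣ where
  toFun x := Units.map (Int.castRingHom ℂ).toMonoidHom (sgnI (idx x))
  map_one' := by
    rw [idx_one]
    exact map_one _
  map_mul' x y := by rw [idx_mul, sgnI_mul, map_mul]

theorem gen_v2 : Gen v2 := by
  have h : (fun x : M => toC (v2 (cls x))) = fun x => (sgn x : ℂ) := by
    funext x
    show toC (v2 (clsI (idx x))) = ((sgnI (idx x) : ℤ) : ℂ)
    have key : ∀ i : Idx, v2 (clsI i) = ⟨(sgnI i : ℤ), 0⟩ := by decide +kernel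
    rw [key, toC_int]
  rw [Gen, h]
  exact IsIrrCharacter.isGeneralizedCharacter (isIrrCharacter_linear sgn)

theorem Gen.mul {v w : Fin 8 → R} (hv : Gen v) (hw : Gen w) : Gen (v * w) := by
  have h : (fun x => toC ((v * w) (cls x))) = (fun x => toC (v (cls x))) * fun x => toC (w (cls x)) :=
    funext fun x => map_mul toC _ _
  rw [Gen, h]
  exact isGeneralizedCharacter_mul hv hw

theorem Gen.add {v w : Fin 8 → R} (hv : Gen v) (hw : Gen w) : Gen (v + w) := by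
  have h : (fun x => toC ((v + w) (cls x))) = (fun x => toC (v (cls x))) + fun x => toC (w (cls x)) :=
    funext fun x => map_add toC _ _
  rw [Gen, h]
  exact CfsgLib.Coherence.isGeneralizedCharacter_add hv hw

theorem Gen.neg {v : Fin 8 → R} (hv : Gen v) : Gen (-v) := by
  have h : (fun x => toC ((-v) (cls x))) = -fun x => toC (v (cls x)) :=
    funext fun x => map_neg toC _
  rw [Gen, h]
  exact CfsgLib.Coherence.isGeneralizedCharacter_neg hv

theorem Gen.sub {v w : Fin 8 → R} (hv : Gen v) (hw : Gen w) : Gen (v - w) := by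
  rw [sub_eq_add_neg]
  exact hv.add hw.neg

theorem gen_one : Gen 1 := by
  have h : (fun x => toC ((1 : Fin 8 → R) (cls x))) = fun _ => (1 : ℂ) :=
    funext fun x => map_one toC
  rw [Gen, h]
  exact IsIrrCharacter.isGeneralizedCharacter isIrrCharacter_one

/-- The character tables of GL(2,3), indexed from zero. -/
def irrTab : Fin 8 → Fin 8 → R :=
  ![![1, 1, 1, 1, 1, 1, 1, 1],
    v2,
    ![2, 2, 0, -1, 2, -1, 0, 0],
    v4,
    star v4,
    ![3, 3, 1, 0, -1, 0, -1, -1],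
    ![3, 3, -1, 0, -1, 0, 1, 1],
    ![4, -4, 0, 1, 0, -1, 0, 0]]

theorem gen_irrTab (i : Fin 8) : Gen (irrTab i) := by
  have h4 : Gen v4 := IsCharacter.isGeneralizedCharacter gen_v4
  have h5 : Gen (star v4) := IsCharacter.isGeneralizedCharacter gen_v5
  have h6 : Gen (irrTab 5) := by
    rw [show irrTab 5 = v4 * v4 - v2 by decide +kernel]
    exact (h4.mul h4).sub gen_v2
  have h7 : Gen (irrTab 6) := by
    rw [show irrTab 6 = v4 * star v4 - 1 by decide +kernel]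
    exact (h4.mul h5).sub gen_one
  have h3 : Gen (irrTab 2) := by
    rw [show irrTab 2 = irrTab 5 * irrTab 5 - 1 - irrTab 5 - irrTab 6 by decide +kernel]
    exact (((h6.mul h6).sub gen_one).sub h6).sub h7
  have h8 : Gen (irrTab 7) := by
    rw [show irrTab 7 = irrTab 2 * v4 by decide +kernel]
    exact h3.mul h4
  have h1 : Gen (irrTab 0) := by
    rw [show irrTab 0 = 1 by decide +kernel]
    exact gen_one
  fin_cases i
  exacts [h1, gen_v2, h3, h4, h5, h6, h7, h8]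

/-- The five tables vanishing off the classes powering the centre. -/
def gTab : Fin 5 → Fin 8 → R :=
  ![irrTab 2 - irrTab 3,
    irrTab 2 - irrTab 4,
    irrTab 0 + irrTab 3 - irrTab 5,
    irrTab 1 + irrTab 3 - irrTab 6,
    irrTab 7 - irrTab 0 - irrTab 6]

theorem gen_gTab (i : Fin 5) : Gen (gTab i) := by
  fin_cases i
  exacts [(gen_irrTab 2).sub (gen_irrTab 3), (gen_irrTab 2).sub (gen_irrTab 4),
    ((gen_irrTab 0).add (gen_irrTab 3)).sub (gen_irrTab 5),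
    ((gen_irrTab 1).add (gen_irrTab 3)).sub (gen_irrTab 6),
    ((gen_irrTab 7).sub (gen_irrTab 0)).sub (gen_irrTab 6)]

theorem gTab_off : ∀ (i : Fin 5) (k : Fin 8), inD k = false → gTab i k = 0 := by decide +kernel

theorem gTab_inner : ∀ i j : Fin 5,
    ∑ x : Idx, gTab i (clsI x) * star (gTab j (clsI x)) =
      ⟨48 * (![![2, 1, -1, -1, 0], ![1, 2, 0, 0, 0], ![-1, 0, 3, 1, -1], ![-1, 0, 1, 3, 1],
        ![0, 0, -1, 1, 3]] i j : ℤ), 0⟩ := by decide +kernel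

theorem gTab_irrTab : ∀ (i : Fin 5) (j : Fin 8),
    ∑ x : Idx, gTab i (clsI x) * star (irrTab j (clsI x)) =
      ⟨48 * (![![0, 0, 1, -1, 0, 0, 0, 0], ![0, 0, 1, 0, -1, 0, 0, 0], ![1, 0, 0, 1, 0, -1, 0, 0],
        ![0, 1, 0, 1, 0, 0, -1, 0], ![-1, 0, 0, 0, 0, 0, -1, 1]] i j : ℤ), 0⟩ := by decide +kernel

/-- Five vanishing inner products kill a function on the classes powering the centre. -/
theorem eq_zero_of_gTab (w : Fin 8 → ℂ)
    (h : ∀ i : Fin 5, ∑ k : Fin 8, ((![1, 1, 12, 8, 6, 8, 6, 6] k : ℕ) : ℂ) *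
      (toC (gTab i k) * conj (w k)) = 0) :
    ∀ k, inD k = true → w k = 0 := by
  have hg : gTab = ![![⟨0, 0⟩, ⟨4, 0⟩, ⟨0, 0⟩, ⟨0, 0⟩, ⟨2, 0⟩, ⟨-2, 0⟩, ⟨0, -1⟩, ⟨0, 1⟩],
      ![⟨0, 0⟩, ⟨4, 0⟩, ⟨0, 0⟩, ⟨0, 0⟩, ⟨2, 0⟩, ⟨-2, 0⟩, ⟨0, 1⟩, ⟨0, -1⟩],
      ![⟨0, 0⟩, ⟨-4, 0⟩, ⟨0, 0⟩, ⟨0, 0⟩, ⟨2, 0⟩, ⟨2, 0⟩, ⟨2, 1⟩, ⟨2, -1⟩],
      ![⟨0, 0⟩, ⟨-4, 0⟩, ⟨0, 0⟩, ⟨0, 0⟩, ⟨2, 0⟩, ⟨2, 0⟩, ⟨-2, 1⟩, ⟨-2, -1⟩],
      ![⟨0, 0⟩, ⟨-8, 0⟩, ⟨0, 0⟩, ⟨0, 0⟩, ⟨0, 0⟩, ⟨-2, 0⟩, ⟨-2, 0⟩, ⟨-2, 0⟩]] := by decide +kernel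
  have h0 := h 0
  have h1 := h 1
  have h2 := h 2
  have h3 := h 3
  have h4 := h 4
  simp [hg, Fin.sum_univ_eight, toC_mk] at h0 h1 h2 h3 h4
  have hrt : rt ≠ 0 := fun e => by have := rt_mul_rt; rw [e, mul_zero] at this; norm_num at this
  intro k hk
  have key : conj (w 1) = 0 ∧ conj (w 4) = 0 ∧ conj (w 5) = 0 ∧ conj (w 6) = 0 ∧ conj (w 7) = 0 := by
    have e67 : conj (w 7) = conj (w 6) := by
      have : rt * (conj (w 7) - conj (w 6)) = 0 := by linear_combination (h0 - h1) / 12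
      exact sub_eq_zero.1 ((mul_eq_zero.1 this).resolve_left hrt)
    have e6 : conj (w 6) = 0 := by
      rw [e67] at h2 h3
      linear_combination (h2 - h3) / 48
    rw [e67, e6] at h0 h2 h4
    have e1 : conj (w 1) = 0 := by
      have a : 4 * conj (w 1) + 12 * conj (w 4) - 16 * conj (w 5) = 0 := by linear_combination h0
      have b : -4 * conj (w 1) + 12 * conj (w 4) + 16 * conj (w 5) = 0 := by linear_combination h2
      have c : -8 * conj (w 1) - 16 * conj (w 5) = 0 := by linear_combination h4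
      linear_combination (1 / 24 : ℂ) * a - (1 / 24 : ℂ) * b - (1 / 12 : ℂ) * c
    rw [e1] at h0 h2 h4
    have e5 : conj (w 5) = 0 := by linear_combination (-1 / 16 : ℂ) * h4
    rw [e5] at h0
    exact ⟨e1, by linear_combination (1 / 12 : ℂ) * h0, e5, e6, e67.trans e6⟩
  simp only [map_eq_zero] at key
  obtain ⟨a, b, c, d, f⟩ := key
  revert hk
  fin_cases k <;> simp [inD, a, b, c, d, f]

end CfsgLib.Involutions.GLTwoThree
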