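/-
Splitting a virtual character along a family of orthonormal signed irreducible characters.
-/
import Cfsg.Agent.Lib.Coherence.Signed

set_option autoImplicit false

open Cfsg
open CfsgLib.CharTheory CfsgLib.Coherence
open scoped ComplexConjugate

namespace CfsgLib.Involutions.GLTwoThree

universe u

variable {G : Type u} [Group G] [Fintype G]

theorem gen_smul_int (c : ℤ) {θ : G → ℂ} (h : IsGeneralizedCharacter G θ) :
    IsGeneralizedCharacter G ((c : ℂ) • θ) := by
  haveI := Fintype.ofFinite (IrrCharacter G)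
  obtain ⟨m, hm⟩ := isGeneralizedCharacter_iff_exists_sum.1 h
  refine isGeneralizedCharacter_iff_exists_sum.2 ⟨fun φ => c * m φ, ?_⟩
  rw [hm, Finset.smul_sum]
  refine Finset.sum_congr rfl fun φ _ => ?_
  rw [Int.cast_mul, smul_smul]

theorem gen_norm_nonneg {θ : G → ℂ} (h : IsGeneralizedCharacter G θ) {z : ℤ}
    (hz : classInner θ θ = z) : 0 ≤ z := by
  haveI := Fintype.ofFinite (IrrCharacter G)
  obtain ⟨m, hm⟩ := isGeneralizedCharacter_iff_exists_sum.1 h
  rw [hm, classInner_generalized_sum, Int.cast_inj] at hz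
  rw [← hz]
  exact Finset.sum_nonneg fun φ _ => mul_self_nonneg (m φ)

theorem eq_zero_of_norm_zero {θ : G → ℂ} (h : IsGeneralizedCharacter G θ)
    (h0 : classInner θ θ = 0) : θ = 0 := by
  obtain ⟨s, hs, hsum, -, -⟩ := exists_signed_decomp h (k := 0) (by norm_num) (by simpa using h0)
  rw [hsum, Finset.card_eq_zero.1 hs, Finset.sum_empty]

theorem signed_of_norm_one {θ : G → ℂ} (h : IsGeneralizedCharacter G θ)
    (h1 : classInner θ θ = 1) : IsIrrCharacter G θ ∨ IsIrrCharacter G (-θ) := by
  obtain ⟨s, hs, hsum, hsg, -⟩ := exists_signed_decomp h (k := 1) (by norm_num) (by simpa using h1)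
  obtain ⟨a, rfl⟩ := Finset.card_eq_one.1 hs
  rw [Finset.sum_singleton] at hsum
  exact hsum ▸ hsg a (Finset.mem_singleton_self a)

/-- The part of `θ` orthogonal to an orthonormal signed family. -/
theorem residual {ι : Type*} [Fintype ι] [DecidableEq ι] (f : ι → G → ℂ)
    (hf : ∀ i, IsIrrCharacter G (f i) ∨ IsIrrCharacter G (-(f i)))
    (horth : ∀ i j, classInner (f i) (f j) = if i = j then 1 else 0)
    {θ : G → ℂ} (hθ : IsGeneralizedCharacter G θ) {n : ℤ} (hn : classInner θ θ = n) (c : ι → ℤ)
    (hc : ∀ i, classInner θ (f i) = c i) :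
    ∃ R : G → ℂ, θ = (∑ i, (c i : ℂ) • f i) + R ∧ IsGeneralizedCharacter G R ∧
      (∀ i, classInner R (f i) = 0) ∧ classInner R R = ((n - ∑ i, c i * c i : ℤ) : ℂ) ∧
      ∑ i, c i * c i ≤ n := by
  refine ⟨θ - ∑ i, (c i : ℂ) • f i, (add_sub_cancel _ _).symm, ?_, ?_, ?_⟩
  · rw [sub_eq_add_neg]
    exact isGeneralizedCharacter_add hθ (isGeneralizedCharacter_neg
      (isGeneralizedCharacter_sum _ _ fun i _ => gen_smul_int _ (signed_isGeneralized (hf i))))
  · intro i
    simp [classInner_sub_left, classInner_sum_left, classInner_smul_left, hc, horth, Finset.sum_ite_eq']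
  · have h0 : ∀ i, classInner (θ - ∑ j, (c j : ℂ) • f j) (f i) = 0 := fun i => by
      simp [classInner_sub_left, classInner_sum_left, classInner_smul_left, hc, horth, Finset.sum_ite_eq']
    have hnorm : classInner (θ - ∑ i, (c i : ℂ) • f i) (θ - ∑ i, (c i : ℂ) • f i) =
        ((n - ∑ i, c i * c i : ℤ) : ℂ) := by
      conv_lhs => rw [classInner_sub_right, classInner_sum_right]
      simp only [classInner_smul_right, h0, mul_zero, Finset.sum_const_zero, sub_zero, classInner_sub_left, hn,
        classInner_sum_left, classInner_smul_left]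
      have hs : ∀ i, classInner (f i) θ = (c i : ℂ) := fun i => by
        rw [classInner_conj_symm, hc, map_intCast]
      simp only [hs]
      push_cast
      rfl
    refine ⟨hnorm, ?_⟩
    have := gen_norm_nonneg (by
      rw [sub_eq_add_neg]
      exact isGeneralizedCharacter_add hθ (isGeneralizedCharacter_neg
        (isGeneralizedCharacter_sum _ _ fun i _ => gen_smul_int _ (signed_isGeneralized (hf i))))) hnorm
    linarith

end CfsgLib.Involutions.GLTwoThree
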