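/-
Induction of the five tables from the centralizer of an involution isomorphic to GL(2,3).
-/
import Cfsg.Agent.Lib.Involutions.GLTwoThree.Chars
import Cfsg.Agent.Lib.Involutions.GLTwoThree.Residual
import Cfsg.Agent.Lib.Involutions.Basic
import Cfsg.Agent.Lib.Frobenius.TI

set_option autoImplicit false

open Cfsg
open CfsgLib.CharTheory
open scoped ComplexConjugate

namespace CfsgLib.Involutions.GLTwoThree

universe u

variable {G : Type u} [Group G] [Fintype G] {t : G}
  (e : Subgroup.centralizer ({t} : Set G) ≃* M)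

/-- The elements having `t` as a power. -/
def special (t : G) : Set G := {g | t ∈ Subgroup.zpowers g}

theorem special_le {g : G} (hg : g ∈ special t) : g ∈ Subgroup.centralizer ({t} : Set G) := by
  rw [Subgroup.mem_centralizer_singleton_iff]
  obtain ⟨k, hk⟩ := Subgroup.mem_zpowers_iff.1 hg
  rw [← hk]
  exact ((Commute.refl g).zpow_right k).eq

theorem e_t (ht : orderOf t = 2) (h : t ∈ Subgroup.centralizer ({t} : Set G)) :
    e ⟨t, h⟩ = negI := by
  refine eq_negI_of_central (fun x => ?_) fun h1 => ?_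
  · obtain ⟨y, rfl⟩ := e.surjective x
    rw [← map_mul, ← map_mul]
    exact congrArg e (Subtype.ext (Subgroup.mem_centralizer_singleton_iff.1 y.2).symm)
  · exact ne_one ht (congrArg Subtype.val (e.map_eq_one_iff.1 h1))

theorem mem_special_iff (ht : orderOf t = 2) (h : Subgroup.centralizer ({t} : Set G)) :
    (h : G) ∈ special t ↔ inD (cls (e h)) = true := by
  constructor
  · intro hg
    obtain ⟨k, hk⟩ := (Submonoid.mem_powers_iff _ _).1 (mem_powers_iff_mem_zpowers.2 hg)
    refine inD_of_pow (k := k) ?_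
    rw [← map_pow, ← e_t e ht (Subgroup.mem_centralizer_singleton_iff.2 rfl)]
    exact congrArg e (Subtype.ext hk)
  · intro hD
    obtain ⟨k, hk⟩ := exists_pow_of_inD hD
    rw [← map_pow, ← e_t e ht (Subgroup.mem_centralizer_singleton_iff.2 rfl)] at hk
    have := congrArg Subtype.val (e.injective hk)
    rw [SubgroupClass.coe_pow] at this
    show t ∈ Subgroup.zpowers (h : G)
    exact Subgroup.mem_zpowers_iff.2 ⟨(k : ℤ), by rw [zpow_natCast]; exact this⟩

theorem special_ti (ht : orderOf t = 2) (x : G) (hx : x ∉ Subgroup.centralizer ({t} : Set G))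
    (s : G) (hs : s ∈ special t) (hsx : x⁻¹ * s * x ∈ special t) : s = 1 := by
  exfalso
  refine hx ?_
  have hmem : x⁻¹ * t * x ∈ Subgroup.zpowers (x⁻¹ * s * x) := by
    obtain ⟨k, hk⟩ := Subgroup.mem_zpowers_iff.1 hs
    refine Subgroup.mem_zpowers_iff.2 ⟨k, ?_⟩
    rw [← hk]
    have := (map_zpow (MulAut.conj x⁻¹) s k).symm
    simpa using this
  have ho : orderOf (x⁻¹ * t * x) = 2 := by
    have := orderOf_conj x⁻¹ t
    rw [inv_inv] at this
    exact this.trans ht
  obtain ⟨-, h1⟩ := eq_half_of_mem_zpowers ho hmem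
  obtain ⟨-, h2⟩ := eq_half_of_mem_zpowers ht hsx
  rw [Subgroup.mem_centralizer_singleton_iff]
  calc x * t = x * (x⁻¹ * t * x) := by rw [h1, ← h2]
    _ = t * x := by group

theorem sum_cls (F : Fin 8 → ℂ) [Fintype (Subgroup.centralizer ({t} : Set G))] :
    ∑ h : Subgroup.centralizer ({t} : Set G), F (cls (e h)) =
      ∑ k : Fin 8, ((![1, 1, 12, 8, 6, 8, 6, 6] k : ℕ) : ℂ) * F k := by
  rw [Fintype.sum_equiv (e.toEquiv.trans idxEquiv) (fun h => F (cls (e h))) (fun i => F (clsI i))
    (fun h => rfl), ← Finset.sum_fiberwise Finset.univ clsI]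
  refine Finset.sum_congr rfl fun k _ => ?_
  rw [Finset.sum_congr rfl (g := fun _ => F k) fun i hi => by rw [(Finset.mem_filter.1 hi).2],
    Finset.sum_const, card_clsI, nsmul_eq_mul]

include e in
theorem card_centralizer : Nat.card (Subgroup.centralizer ({t} : Set G)) = 48 := by
  rw [Nat.card_congr e.toEquiv, card_M]

theorem inner_tab [Fintype (Subgroup.centralizer ({t} : Set G))] (v w : Fin 8 → R) {n : ℤ}
    (h : ∑ i : Idx, v (clsI i) * star (w (clsI i)) = ⟨48 * n, 0⟩) :
    classInner (fun h : Subgroup.centralizer ({t} : Set G) => toC (v (cls (e h))))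
      (fun h => toC (w (cls (e h)))) = n := by
  have hs : ∑ h : Subgroup.centralizer ({t} : Set G), toC (v (cls (e h))) * conj (toC (w (cls (e h)))) =
      toC (∑ i : Idx, v (clsI i) * star (w (clsI i))) := by
    rw [map_sum]
    refine Fintype.sum_equiv (e.toEquiv.trans idxEquiv) _ _ fun h => ?_
    rw [map_mul, conj_toC]
    rfl
  rw [classInner, hs, h, card_centralizer e, toC_int]
  push_cast
  ring

/-- The induced virtual characters. -/
noncomputable def phi (i : Fin 5) : G → ℂ :=
  indFun (Subgroup.centralizer ({t} : Set G)) fun h => toC (gTab i (cls (e h)))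

theorem isClassFunction_tab (v : Fin 8 → R) :
    IsClassFunction (Subgroup.centralizer ({t} : Set G)) fun h => toC (v (cls (e h))) := fun g h => by
  show toC (v (cls (e (h * g * h⁻¹)))) = _
  rw [map_mul, map_mul, map_inv, cls_conj]

theorem gen_phi (i : Fin 5) : IsGeneralizedCharacter G (phi e i) :=
  CfsgLib.Frobenius.isGeneralizedCharacter_indFun _ _
    (CfsgLib.Coherence.isGeneralizedCharacter_comp (gen_gTab i) e.toMonoidHom)

theorem gTab_vanish (ht : orderOf t = 2) (i : Fin 5) (h : Subgroup.centralizer ({t} : Set G))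
    (hh : (h : G) ∉ special t) : toC (gTab i (cls (e h))) = 0 := by
  rw [gTab_off i _ (Bool.eq_false_iff.2 fun h' => hh ((mem_special_iff e ht h).2 h')), map_zero]

theorem gTab_apply_one (i : Fin 5) :
    toC (gTab i (cls (e (1 : Subgroup.centralizer ({t} : Set G))))) = 0 := by
  rw [map_one, show cls (1 : M) = 0 by rw [cls, idx_one, clsI_zero.1], gTab_off i 0 rfl, map_zero]

theorem phi_inner (ht : orderOf t = 2) (i j : Fin 5) :
    classInner (phi e i) (phi e j) = ((![![2, 1, -1, -1, 0], ![1, 2, 0, 0, 0], ![-1, 0, 3, 1, -1],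
      ![-1, 0, 1, 3, 1], ![0, 0, -1, 1, 3]] i j : ℤ) : ℂ) := by
  classical
  haveI := Fintype.ofFinite (Subgroup.centralizer ({t} : Set G))
  rw [phi, phi, CfsgLib.Frobenius.classInner_indFun_indFun_of_ti _ (special t) (special_ti ht) _ _
    (isClassFunction_tab e _) (gTab_vanish e ht i) (gTab_vanish e ht j) (gTab_apply_one e j)]
  exact inner_tab e _ _ (gTab_inner i j)

theorem phi_one (i : Fin 5) : phi e i 1 = 0 := by
  rw [phi, CfsgLib.Frobenius.indFun_one, gTab_apply_one, mul_zero]

theorem phi_inner_one (i : Fin 5) :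
    classInner (phi e i) (fun _ => (1 : ℂ)) = ((![0, 0, 1, 0, -1] i : ℤ) : ℂ) := by
  classical
  haveI := Fintype.ofFinite (Subgroup.centralizer ({t} : Set G))
  rw [phi, CfsgLib.Frobenius.classInner_indFun _ _ _ (fun _ _ => rfl)]
  have h1 : (fun _ : Subgroup.centralizer ({t} : Set G) => (1 : ℂ)) =
      fun h => toC (irrTab 0 (cls (e h))) := funext fun h => by
    have : ∀ k, irrTab 0 k = 1 := by decide +kernel
    rw [this, map_one]
  rw [h1, inner_tab e _ _ (gTab_irrTab i 0)]
  fin_cases i <;> rfl

/-- A class function whose inner products with the induced characters are those of a table takes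
the values of that table on the special elements. -/
theorem apply_special (ht : orderOf t = 2) {φ : G → ℂ} (hφ : IsClassFunction G φ) (v : Fin 8 → R)
    (n : Fin 5 → ℤ) (hv : ∀ i, ∑ x : Idx, gTab i (clsI x) * star (v (clsI x)) = ⟨48 * n i, 0⟩)
    (hn : ∀ i, classInner (phi e i) φ = n i) (h : Subgroup.centralizer ({t} : Set G))
    (hh : (h : G) ∈ special t) : φ h = toC (v (cls (e h))) := by
  classical
  haveI := Fintype.ofFinite (Subgroup.centralizer ({t} : Set G))
  let w : Fin 8 → ℂ := fun k => φ (e.symm (el (repI k)) : Subgroup.centralizer ({t} : Set G))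
  have hw : ∀ h : Subgroup.centralizer ({t} : Set G), φ h = w (cls (e h)) := by
    intro h
    obtain ⟨c, hc⟩ := exists_conj_rep (e h)
    show φ h = φ _
    rw [← hc, map_mul, map_mul, map_inv, e.symm_apply_apply]
    exact (hφ _ _).symm
  have key := eq_zero_of_gTab (fun k => w k - toC (v k)) (fun i => ?_) _
    ((mem_special_iff e ht h).1 hh)
  · rw [hw]
    exact sub_eq_zero.1 key
  · have h1 := hn i
    rw [phi, CfsgLib.Frobenius.classInner_indFun _ _ _ hφ] at h1
    have h2 := inner_tab e _ _ (hv i)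
    rw [← sum_cls e fun k => toC (gTab i k) * conj (w k - toC (v k))]
    simp only [classInner, hw] at h1 h2
    simp only [map_sub, mul_sub, Finset.sum_sub_distrib]
    have hne : ((Nat.card (Subgroup.centralizer ({t} : Set G)) : ℕ) : ℂ)⁻¹ ≠ 0 := by
      rw [card_centralizer e]; norm_num
    exact sub_eq_zero.2 (mul_left_cancel₀ hne (h1.trans h2.symm))

end CfsgLib.Involutions.GLTwoThree
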