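/-
The order of a group with an involution centralizer isomorphic to GL(2,3) and no quotient of order
two: 5616 or 7920.
-/
import Cfsg.Agent.Lib.Involutions.GLTwoThree.Decompose
import Cfsg.Agent.Lib.Involutions.Counting
import Cfsg.Agent.Lib.Involutions.ThompsonTransfer
import Cfsg.Agent.Lib.CharTheory.Orthogonality
import Cfsg.Agent.Lib.CharTheory.Convolution
import Cfsg.Prelude.Def_Transfer

set_option autoImplicit false

open Cfsg
open CfsgLib.CharTheory
open scoped ComplexConjugate

namespace CfsgLib.Involutions.GLTwoThree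

universe u

section Local

variable {G : Type u} [Group G] [Fintype G]

theorem no_index_two (hO : pResidual 2 G = ⊤) (K : Subgroup G) : K.index ≠ 2 := by
  intro h
  have hle : pResidual 2 G ≤ K := (Subgroup.closure_le _).2 fun x hx => by
    have hx' : Nat.Coprime (orderOf x) 2 := hx
    obtain ⟨m, hm⟩ := exists_pow_eq_self_of_coprime hx'.symm
    have h2 : x ^ 2 ∈ K := pow_two x ▸ Subgroup.mul_self_mem_of_index_two h x
    exact hm ▸ K.pow_mem h2 m
  rw [hO, top_le_iff] at hle
  rw [hle, Subgroup.index_top] at h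
  omega

variable {t : G} (e : Subgroup.centralizer ({t} : Set G) ≃* M)

/-- The image in `G` of a subgroup of the model. -/
noncomputable def pull (S : Subgroup M) : Subgroup G :=
  S.map ((Subgroup.centralizer ({t} : Set G)).subtype.comp e.symm.toMonoidHom)

theorem card_pull (S : Subgroup M) : Nat.card (pull e S) = Nat.card S :=
  Subgroup.card_map_of_injective
    ((Subgroup.centralizer ({t} : Set G)).subtype_injective.comp e.symm.injective)

theorem mem_pull {S : Subgroup M} {x : G} :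
    x ∈ pull e S ↔ ∃ h : x ∈ Subgroup.centralizer ({t} : Set G), e ⟨x, h⟩ ∈ S := by
  constructor
  · rintro ⟨y, hy, rfl⟩
    exact ⟨(e.symm y).2, by simpa using hy⟩
  · rintro ⟨h, hS⟩
    exact ⟨_, hS, by simp⟩

include e in
theorem exists_sylow (ht : orderOf t = 2) :
    ∃ P : Sylow 2 G, (P : Subgroup G) = pull e sylP := by
  haveI : Fact (Nat.Prime 2) := ⟨Nat.prime_two⟩
  set P₀ := pull e sylP with hP₀
  have h16 : Nat.card P₀ = 16 := (card_pull e _).trans card_sylP
  have hp : IsPGroup 2 P₀ := IsPGroup.of_card (n := 4) (by rw [h16]; norm_num)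
  obtain ⟨P, hP⟩ := hp.exists_le_sylow
  refine ⟨P, le_antisymm ?_ hP⟩
  by_contra hlt
  haveI : Group.IsNilpotent (P : Subgroup G) := P.isPGroup'.isNilpotent
  have hne : P₀.subgroupOf (P : Subgroup G) < ⊤ :=
    lt_top_iff_ne_top.2 fun h => hlt (Subgroup.subgroupOf_eq_top.1 h)
  obtain ⟨y, hyN, hyP⟩ := SetLike.exists_of_lt (Group.normalizerCondition_of_isNilpotent _ hne)
  -- `y` fixes `t`
  have htC : t ∈ Subgroup.centralizer ({t} : Set G) := Subgroup.mem_centralizer_singleton_iff.2 rfl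
  have htP : t ∈ P₀ := (mem_pull e).2 ⟨htC, by rw [e_t e ht]; exact negI_mem_sylP⟩
  have hconj : ∀ x : G, x ∈ P₀ → (y : G) * x * (y : G)⁻¹ ∈ P₀ ∧ (y : G)⁻¹ * x * y ∈ P₀ := by
    intro x hx
    have h1 := (Subgroup.mem_normalizer_iff.1 hyN ⟨x, hP hx⟩).1 hx
    have h2 := (Subgroup.mem_normalizer_iff.1 (Subgroup.inv_mem _ hyN) ⟨x, hP hx⟩).1 hx
    refine ⟨h1, ?_⟩
    simpa [Subgroup.mem_subgroupOf] using h2
  obtain ⟨hyt, hyS⟩ := (mem_pull e).1 (hconj t htP).1
  have hyz : e ⟨_, hyt⟩ = negI := by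
    refine center_sylP hyS (fun x hx => ?_) fun h => ne_one ht
      (conj_eq_one_iff.1 (congrArg Subtype.val (e.map_eq_one_iff.1 h)))
    obtain ⟨c, rfl⟩ := e.surjective x
    rw [← map_mul, ← map_mul]
    refine congrArg e (Subtype.ext ?_)
    obtain ⟨hc', -⟩ := (mem_pull e).1 (hconj c (show (c : G) ∈ P₀ from (mem_pull e).2 ⟨c.2, hx⟩)).2
    have h2 := Subgroup.mem_centralizer_singleton_iff.1 hc'
    show (y : G) * t * (y : G)⁻¹ * c = c * ((y : G) * t * (y : G)⁻¹)
    calc (y : G) * t * (y : G)⁻¹ * c = y * (t * ((y : G)⁻¹ * c * y)) * (y : G)⁻¹ := by group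
      _ = c * ((y : G) * t * (y : G)⁻¹) := by rw [← h2]; group
  have hyC : (y : G) ∈ Subgroup.centralizer ({t} : Set G) := by
    rw [Subgroup.mem_centralizer_singleton_iff]
    exact mul_inv_eq_iff_eq_mul.1
      (congrArg Subtype.val (e.injective (hyz.trans (e_t e ht htC).symm)))
  -- so `y` lies in a 2-subgroup of the centralizer containing `P₀`
  have hle : P₀ ≤ (P : Subgroup G) ⊓ Subgroup.centralizer ({t} : Set G) :=
    le_inf hP fun x hx => ((mem_pull e (S := sylP)).1 hx).1
  have hp' : IsPGroup 2 ((P : Subgroup G) ⊓ Subgroup.centralizer ({t} : Set G) : Subgroup G) := P.isPGroup'.to_le inf_le_left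
  obtain ⟨j, hj⟩ := hp'.exists_card_eq
  have hd : 2 ^ j ∣ 48 := by
    rw [← hj, ← card_centralizer e]
    exact Subgroup.card_dvd_of_le inf_le_right
  have hj4 : j ≤ 4 := by
    by_contra h
    have := (pow_dvd_pow 2 (show 5 ≤ j by omega)).trans hd
    norm_num at this
  have heq := Subgroup.eq_of_le_of_card_ge hle (by
    rw [hj, h16]
    calc 2 ^ j ≤ 2 ^ 4 := Nat.pow_le_pow_right (by norm_num) hj4
      _ = 16 := by norm_num)
  exact hyP (show (y : G) ∈ P₀ from heq.ge ⟨y.2, hyC⟩)

include e in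
theorem card_mod (ht : orderOf t = 2) : 48 ∣ Nat.card G ∧ ¬ 32 ∣ Nat.card G := by
  haveI : Fact (Nat.Prime 2) := ⟨Nat.prime_two⟩
  refine ⟨(card_centralizer e) ▸ Subgroup.card_subgroup_dvd_card _, fun h => ?_⟩
  obtain ⟨P, hP⟩ := exists_sylow e ht
  have h16 : Nat.card (P : Subgroup G) = 16 := by rw [hP, card_pull, card_sylP]
  have hd : 2 ^ 5 ∣ Nat.card (P : Subgroup G) := P.pow_dvd_card_of_pow_dvd_card (by norm_num; rwa [Nat.card_eq_fintype_card] at h)
  rw [h16] at hd
  norm_num at hd

include e in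
theorem isConj_involution (ht : orderOf t = 2) (hO : pResidual 2 G = ⊤) {x : G}
    (hx : orderOf x = 2) : IsConj t x := by
  by_contra hno
  set Q := pull e quatQ
  have h8 : Nat.card Q = 8 := (card_pull e _).trans card_quatQ
  have hidx : Q.index % 4 = 2 := by
    obtain ⟨h48, h32⟩ := card_mod e ht
    have := Q.card_mul_index
    rw [h8] at this
    omega
  obtain ⟨K, hK⟩ := exists_index_two_of_involution_not_conj hx hidx fun g hg => by
    obtain ⟨hC, hQ⟩ := (mem_pull e).1 hg
    have ho : orderOf (g * x * g⁻¹) = 2 := (orderOf_conj g x).trans hx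
    rcases quatQ_involution hQ (by
      rw [← map_mul]; exact e.map_eq_one_iff.2 (Subtype.ext (mul_self_eq_one ho))) with h | h
    · exact ne_one ho (congrArg Subtype.val (e.map_eq_one_iff.1 h))
    · rw [← e_t e ht (Subgroup.mem_centralizer_singleton_iff.2 rfl)] at h
      exact hno (isConj_iff.2 ⟨g, congrArg Subtype.val (e.injective h)⟩).symm
  exact no_index_two hO K hK

end Local

variable {G : Type u} [Group G] [Fintype G] {t : G}
  (e : Subgroup.centralizer ({t} : Set G) ≃* M)

theorem card_solutions (ht : orderOf t = 2) (hone : ∀ x : G, orderOf x = 2 → IsConj t x)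
    (h : Subgroup.centralizer ({t} : Set G)) (hh : (h : G) ∈ special t) :
    Nat.card {q : G × G // q.1 * t * q.1⁻¹ * (q.2 * t * q.2⁻¹) = h} =
      2304 * ![0, 12, 0, 0, 4, 6, 0, 0] (cls (e h)) := by
  classical
  -- involutions `i` with `i * h` an involution
  let T := {i : G // orderOf i = 2 ∧ orderOf (i * h) = 2}
  have hT : ∀ i : T, (i : G) ∈ Subgroup.centralizer ({t} : Set G) := by
    rintro ⟨i, hi, hih⟩
    have hinv : i * h * i⁻¹ = (h : G)⁻¹ := by
      have h2 := mul_self_eq_one hih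
      rw [inv_eq_self hi]
      exact (inv_eq_of_mul_eq_one_left (by simpa [mul_assoc] using h2)).symm
    obtain ⟨k, hk⟩ := Subgroup.mem_zpowers_iff.1 hh
    have key : ∀ x : G, x ^ k = t → i * x * i⁻¹ = x⁻¹ → i * t * i⁻¹ = t := by
      intro x hx hi'
      rw [← hx, ← conj_zpow, hi', inv_zpow, hx, inv_eq_self ht]
    rw [Subgroup.mem_centralizer_singleton_iff]
    exact mul_inv_eq_iff_eq_mul.1 (key _ hk hinv)
  have hTcard : Nat.card T = ![0, 12, 0, 0, 4, 6, 0, 0] (cls (e h)) := by
    rw [← card_inverting ((mem_special_iff e ht h).1 hh)]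
    refine Nat.card_congr
      { toFun := fun i => ⟨e ⟨i, hT i⟩, ?_⟩
        invFun := fun m => ⟨(e.symm m.1 : G), ?_⟩
        left_inv := fun i => Subtype.ext (by simp)
        right_inv := fun m => Subtype.ext (by simp) }
    · obtain ⟨⟨h1, h2⟩, h3, h4⟩ :=
        (⟨(orderOf_eq_two_iff.1 i.2.1), (orderOf_eq_two_iff.1 i.2.2)⟩ :
          ((i : G) * i = 1 ∧ (i : G) ≠ 1) ∧ ((i : G) * h * ((i : G) * h) = 1 ∧ (i : G) * h ≠ 1))
      refine ⟨fun e1 => h2 (congrArg Subtype.val (e.map_eq_one_iff.1 e1)), ?_,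
        fun e1 => h4 ?_, ?_⟩
      · rw [← map_mul]; exact e.map_eq_one_iff.2 (Subtype.ext h1)
      · rw [← map_mul] at e1
        exact congrArg Subtype.val (e.map_eq_one_iff.1 e1)
      · rw [← map_mul, ← map_mul]; exact e.map_eq_one_iff.2 (Subtype.ext h3)
    · obtain ⟨h2, h1, h4, h3⟩ := m.2
      refine ⟨orderOf_eq_two_iff.2 ⟨?_, fun e1 => h2 ?_⟩, orderOf_eq_two_iff.2 ⟨?_, fun e1 => h4 ?_⟩⟩
      · rw [← Subgroup.coe_mul, ← map_mul, h1, map_one, Subgroup.coe_one]
      · exact e.symm.map_eq_one_iff.1 (Subtype.ext e1)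
      · have : (e.symm m.1 * h) * (e.symm m.1 * h) = 1 := e.injective (by simpa using h3)
        exact congrArg Subtype.val this
      · have : e.symm m.1 * h = 1 := Subtype.ext e1
        simpa using congrArg e this
  have hfib : ∀ i : G, orderOf i = 2 → Nat.card {a : G // a * t * a⁻¹ = i} = 48 := by
    intro i hi
    obtain ⟨c, hc⟩ := isConj_iff.1 (hone i hi)
    rw [card_conj_eq_card_centralizer hc, card_centralizer e]
  let eq1 : {q : G × G // q.1 * t * q.1⁻¹ * (q.2 * t * q.2⁻¹) = h} ≃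
      Σ i : T, {a : G // a * t * a⁻¹ = (i : G)} × {b : G // b * t * b⁻¹ = (i : G) * h} :=
    { toFun := fun q =>
        ⟨⟨q.1.1 * t * q.1.1⁻¹, (orderOf_conj _ _).trans ht, by
          have hq : q.1.2 * t * q.1.2⁻¹ = q.1.1 * t * q.1.1⁻¹ * h := by
            rw [← mul_right_inj (q.1.1 * t * q.1.1⁻¹), ← mul_assoc (q.1.1 * t * q.1.1⁻¹) _ (h : G),
              mul_self_eq_one ((orderOf_conj _ _).trans ht), one_mul]
            exact q.2
          rw [← hq]; exact (orderOf_conj _ _).trans ht⟩,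
          ⟨q.1.1, rfl⟩, ⟨q.1.2, by
            rw [← mul_right_inj (q.1.1 * t * q.1.1⁻¹), ← mul_assoc (q.1.1 * t * q.1.1⁻¹) _ (h : G),
              mul_self_eq_one ((orderOf_conj _ _).trans ht), one_mul]
            exact q.2⟩⟩
      invFun := fun s => ⟨(s.2.1.1, s.2.2.1), by
        show s.2.1.1 * t * s.2.1.1⁻¹ * (s.2.2.1 * t * s.2.2.1⁻¹) = h
        rw [s.2.1.2, s.2.2.2, ← mul_assoc, mul_self_eq_one s.1.2.1, one_mul]⟩
      left_inv := fun q => rfl
      right_inv := fun ⟨⟨i, hi⟩, ⟨a, ha⟩, ⟨b, hb⟩⟩ => by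
        simp only at ha
        subst ha
        rfl }
  rw [Nat.card_congr eq1, Nat.card_sigma, Finset.sum_congr rfl (g := fun _ => 2304) fun i _ => by
    rw [Nat.card_prod, hfib _ i.2.1, hfib _ i.2.2], Finset.sum_const, Finset.card_univ,
    ← Nat.card_eq_fintype_card, hTcard, smul_eq_mul, mul_comm]

theorem class_equation (ht : orderOf t = 2) (hone : ∀ x : G, orderOf x = 2 → IsConj t x)
    (f : Fin 8 → G → ℂ) (a y : ℤ) (hs : Signed f) (hd : ∀ j, f j 1 = (degTab a y j : ℂ))
    (hv : ∀ (j : Fin 8) (h : Subgroup.centralizer ({t} : Set G)), (h : G) ∈ special t →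
      f j h = toC (valTab j (cls (e h))))
    (ho : ∀ ψ : G → ℂ, IsIrrCharacter G ψ → (∀ j, classInner (f j) ψ = 0) →
      ∀ h : Subgroup.centralizer ({t} : Set G), (h : G) ∈ special t → ψ h = 0)
    (h : Subgroup.centralizer ({t} : Set G)) (hh : (h : G) ∈ special t) :
    (Nat.card G : ℂ) * ∑ j, toC (valTab j 1) ^ 2 * conj (toC (valTab j (cls (e h)))) /
      (degTab a y j : ℂ) = ((2304 * ![0, 12, 0, 0, 4, 6, 0, 0] (cls (e h)) : ℕ) : ℂ) := by
  classical
  haveI := Fintype.ofFinite (IrrCharacter G)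
  set g : ℂ := (Nat.card G : ℂ) with hg
  have hg0 : g ≠ 0 := Nat.cast_ne_zero.2 Nat.card_pos.ne'
  let F : G → ℂ := fun x => (Nat.card {q : G × G // q.1 * t * q.1⁻¹ * (q.2 * t * q.2⁻¹) = x} : ℂ)
  have hF : IsClassFunction G F := fun x c => by
    refine congrArg Nat.cast (Nat.card_congr ((((Equiv.mulLeft c⁻¹).prodCongr (Equiv.mulLeft c⁻¹))).subtypeEquiv fun q => ?_))
    simp only [Equiv.prodCongr_apply, Prod.map_fst, Prod.map_snd, Equiv.coe_mulLeft]
    rw [show c⁻¹ * q.1 * t * (c⁻¹ * q.1)⁻¹ * (c⁻¹ * q.2 * t * (c⁻¹ * q.2)⁻¹) =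
      c⁻¹ * (q.1 * t * q.1⁻¹ * (q.2 * t * q.2⁻¹)) * c by group]
    constructor
    · intro h1; rw [h1]; group
    · intro h1; rw [← h1]; group
  have hcoef : ∀ χ : IrrCharacter G,
      classInner F (χ : G → ℂ) = g * conj ((χ : G → ℂ) t ^ 2 / (χ : G → ℂ) 1) := by
    intro χ
    have h1 : ∑ x : G, F x * conj ((χ : G → ℂ) x) =
        ∑ q : G × G, conj ((χ : G → ℂ) (q.1 * t * q.1⁻¹ * (q.2 * t * q.2⁻¹))) := by
      rw [← Finset.sum_fiberwise Finset.univ
        (fun q : G × G => q.1 * t * q.1⁻¹ * (q.2 * t * q.2⁻¹))]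
      refine Finset.sum_congr rfl fun x _ => ?_
      rw [Finset.sum_congr rfl (g := fun _ => conj ((χ : G → ℂ) x)) fun q hq => by
        rw [(Finset.mem_filter.1 hq).2], Finset.sum_const, nsmul_eq_mul]
      simp only [F, Nat.card_eq_fintype_card, Fintype.card_subtype]
    rw [classInner, h1, Fintype.sum_prod_type, Finset.sum_comm, Finset.sum_congr rfl
      (g := fun _ => conj (g * ((χ : G → ℂ) t ^ 2 / (χ : G → ℂ) 1))) (fun b _ => by
        dsimp only
        rw [← map_sum, IsIrrCharacter.sum_conj_mul χ.2, IsIrrCharacter.isClassFunction χ.2 t b,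
          ← hg, sq, mul_assoc, mul_div_assoc])]
    rw [Finset.sum_const, Finset.card_univ, ← Nat.card_eq_fintype_card, nsmul_eq_mul, map_mul, ← hg,
      hg, map_natCast, inv_mul_cancel_left₀ (by rw [← hg]; exact hg0)]
  have hval := congrFun (eq_sum_classInner hF) (h : G)
  simp only [Finset.sum_apply, Pi.smul_apply, smul_eq_mul, hcoef] at hval
  -- only the eight characters contribute
  have hrep : ∀ j, ∃ φ : IrrCharacter G, f j = (φ : G → ℂ) ∨ f j = -(φ : G → ℂ) := fun j => by
    rcases hs.irr j with h1 | h1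
    · exact ⟨⟨_, h1⟩, Or.inl rfl⟩
    · exact ⟨⟨_, h1⟩, Or.inr (neg_neg _).symm⟩
  choose φ hφ using hrep
  have hinj : Function.Injective φ := by
    intro i j hij
    by_contra hne
    have h0 := hs.orth i j
    rw [if_neg hne] at h0
    have h1 : classInner (φ i : G → ℂ) (φ i : G → ℂ) = 1 := classInner_self_of_isIrr (φ i).2
    rcases hφ i with e1 | e1 <;> rcases hφ j with e2 | e2 <;> rw [e1, e2, ← hij] at h0 <;>
      simp [CfsgLib.Coherence.inner_neg_left, CfsgLib.Coherence.inner_neg_right, h1] at h0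
  rw [← Finset.sum_subset (Finset.subset_univ (Finset.univ.image φ)) (fun χ _ hχ => by
    rw [ho _ χ.2 (fun j => by
      have h0 := classInner_eq_zero_of_ne (φ j).2 χ.2 fun e1 => hχ (Finset.mem_image.2
        ⟨j, Finset.mem_univ j, Subtype.ext e1⟩)
      rcases hφ j with e1 | e1 <;> rw [e1]
      · exact h0
      · rw [CfsgLib.Coherence.inner_neg_left, h0, neg_zero]) h hh, mul_zero]),
    Finset.sum_image hinj.injOn] at hval
  · have hterm : ∀ j, g * conj ((φ j : G → ℂ) t ^ 2 / (φ j : G → ℂ) 1) * (φ j : G → ℂ) h =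
        g * conj (toC (valTab j 1) ^ 2 / (degTab a y j : ℂ)) * toC (valTab j (cls (e h))) := by
      intro j
      have htC : t ∈ Subgroup.centralizer ({t} : Set G) :=
        Subgroup.mem_centralizer_singleton_iff.2 rfl
      have v1 : f j t = toC (valTab j 1) := by
        have := hv j ⟨t, htC⟩ (Subgroup.mem_zpowers t)
        rwa [e_t e ht htC, show cls negI = 1 by rw [cls, idx_negI, clsI_zero.2]] at this
      rw [← hd j, ← v1, ← hv j h hh]
      rcases hφ j with e1 | e1 <;> rw [e1]
      simp only [Pi.neg_apply, neg_sq, div_neg, map_neg]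
      ring
    rw [Finset.sum_congr rfl fun j _ => hterm j] at hval
    have := congrArg conj hval
    simp only [F, map_natCast, card_solutions e ht hone h hh, map_sum, map_mul, Complex.conj_conj,
      map_intCast] at this
    rw [this, Finset.mul_sum]
    refine Finset.sum_congr rfl fun j _ => ?_
    rw [show conj g = g from map_natCast _ _]
    ring

include e in
theorem card_eq (ht : orderOf t = 2) (hO : pResidual 2 G = ⊤) :
    Nat.card G = 5616 ∨ Nat.card G = 7920 := by
  classical
  have hone : ∀ x : G, orderOf x = 2 → IsConj t x := fun x hx => isConj_involution e ht hO hx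
  obtain ⟨f, a, y, hs, hd, hv, ho⟩ := exists_exceptional e ht
  have hne : ∀ j, degTab a y j ≠ 0 := fun j h0 =>
    CfsgLib.Coherence.signed_apply_one_ne_zero (hs.irr j) (by rw [hd, h0, Int.cast_zero])
  have hel : ∀ k, inD k = true → ∃ h : Subgroup.centralizer ({t} : Set G),
      (h : G) ∈ special t ∧ cls (e h) = k := by
    intro k hk
    have hc : cls (e (e.symm (el (repI k)))) = k := by
      rw [e.apply_symm_apply, cls, idx_el, clsI_repI]
    exact ⟨_, (mem_special_iff e ht _).2 (by rw [hc]; exact hk), hc⟩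
  have a0 : (a : ℂ) ≠ 0 := Int.cast_ne_zero.2 (hne 1)
  have x0 : (-1 - a : ℂ) ≠ 0 := by exact_mod_cast hne 4
  have y0 : (y : ℂ) ≠ 0 := Int.cast_ne_zero.2 (hne 5)
  have z0 : (-a - y : ℂ) ≠ 0 := by exact_mod_cast hne 6
  -- the element of order eight
  obtain ⟨h8, hh8, hc8⟩ := hel 6 rfl
  have E8 := class_equation e ht hone f a y hs hd hv ho h8 hh8
  rw [hc8] at E8
  obtain ⟨h4, hh4, hc4⟩ := hel 4 rfl
  have E4 := class_equation e ht hone f a y hs hd hv ho h4 hh4
  rw [hc4] at E4
  simp [Fin.sum_univ_eight, valTab, irrTab, v2, v4, degTab, toC_mk, conj_rt, map_ofNat, -Nat.card_eq_fintype_card] at E8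
  simp [Fin.sum_univ_eight, valTab, irrTab, v2, v4, degTab, toC_mk, conj_rt, map_ofNat, -Nat.card_eq_fintype_card] at E4
  -- no character of degree one takes the value of the sign
  have hsum : a + y ≠ -1 := by
    intro hsum
    have hz : f 6 1 = 1 := by
      rw [hd]
      simp [degTab]
      exact_mod_cast (show (-a - y : ℤ) = 1 by omega)
    have hirr : IsIrrCharacter G (f 6) := by
      rcases hs.irr 6 with h | h
      · exact h
      · obtain ⟨m, -, hm⟩ := exists_degree_of_isIrr h
        rw [Pi.neg_apply, hz] at hm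
        exfalso
        have : ((-1 : ℤ) : ℂ) = ((m : ℤ) : ℂ) := by push_cast; exact hm
        have := Int.cast_injective this
        omega
    obtain ⟨μ, hμ⟩ := exists_hom_of_degree_one hirr hz
    have hval : f 6 h8 = -1 := by
      rw [hv 6 h8 hh8, hc8]
      simp [valTab, irrTab, v2, toC_mk]
    have hμ8 : μ (h8 : G) = -1 := Units.ext (by
      rw [Units.val_neg, Units.val_one, ← hval]
      exact (congrFun hμ h8).symm ▸ rfl)
    -- a linear character of even order gives a subgroup of index two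
    obtain ⟨z, hz2, hz1⟩ : ∃ z : μ.range, orderOf z = 2 ∧ True := ⟨⟨-1, h8, hμ8⟩, by
      rw [← Subgroup.orderOf_coe]
      exact orderOf_eq_prime_iff.2 ⟨by norm_num, by
        intro h
        have := congrArg Units.val h
        norm_num at this⟩, trivial⟩
    haveI : IsCyclic μ.range := inferInstance
    have h2 : 2 ∣ Nat.card μ.range := hz2 ▸ orderOf_dvd_natCard z
    obtain ⟨r, hr⟩ := IsCyclic.exists_generator (α := μ.range)
    have hK : ((Subgroup.zpowers (r ^ 2)).comap μ.rangeRestrict).index = 2 := by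
      rw [Subgroup.index_comap_of_surjective _ μ.rangeRestrict_surjective]
      have h1 := (Subgroup.zpowers (r ^ 2)).card_mul_index
      rw [Nat.card_zpowers, orderOf_pow' r two_ne_zero, orderOf_eq_card_of_forall_mem_zpowers hr,
        Nat.gcd_eq_right h2] at h1
      have hpos : 0 < Nat.card μ.range / 2 := Nat.div_pos (Nat.le_of_dvd Nat.card_pos h2) two_pos
      refine Nat.eq_of_mul_eq_mul_left hpos (h1.trans ?_)
      exact (Nat.div_mul_cancel h2).symm
    exact no_index_two hO _ hK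
  -- clearing denominators
  have P8 : (1 + a) * y = 9 * (a + y) := by
    have key : ((a + y + 1 : ℤ) : ℂ) * (((1 + a) * y - 9 * (a + y) : ℤ) : ℂ) = 0 := by
      push_cast
      have E8' := E8.resolve_left Nat.card_pos.ne'
      field_simp at E8'
      refine mul_left_cancel₀ a0 ?_
      linear_combination E8'
    rcases mul_eq_zero.1 key with h | h
    · exact absurd (by have := Int.cast_eq_zero.1 h; omega) hsum
    · have := Int.cast_eq_zero.1 h
      omega
  have P4 : (Nat.card G : ℤ) * (a * (1 + a) * y * (a + y) + 8 * (1 + a) * y * (a + y) -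
      9 * a * y * (a + y) + 9 * a * (1 + a) * (a + y) - a * (1 + a) * y) =
      9216 * (a * (1 + a) * y * (a + y)) := by
    have key : ((Nat.card G : ℤ) : ℂ) * ((a * (1 + a) * y * (a + y) + 8 * (1 + a) * y * (a + y) -
      9 * a * y * (a + y) + 9 * a * (1 + a) * (a + y) - a * (1 + a) * y : ℤ) : ℂ) =
      ((9216 * (a * (1 + a) * y * (a + y)) : ℤ) : ℂ) := by
      push_cast
      field_simp at E4
      linear_combination E4
    exact_mod_cast key
  -- the finitely many possibilities
  have hmul : (a - 8) * (y - 9) = 72 := by linear_combination P8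
  have hb : (a - 8).natAbs ≤ 72 := Nat.le_of_dvd (by norm_num)
    ⟨(y - 9).natAbs, by rw [← Int.natAbs_mul, hmul]; rfl⟩
  obtain ⟨h48, h32⟩ := card_mod e ht
  have hlo : -64 ≤ a := by omega
  have hhi : a ≤ 80 := by omega
  have hy : y - 9 = 72 / (a - 8) := by
    rw [← hmul, Int.mul_ediv_cancel_left]
    intro h0
    rw [h0, zero_mul] at hmul
    norm_num at hmul
  have n1 : a ≠ 0 := hne 1
  have n4 : -1 - a ≠ 0 := hne 4
  have n5 : y ≠ 0 := hne 5
  interval_cases a <;> norm_num at hmul <;> norm_num at hy <;>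
    (first | omega | ((first | rw [eq_add_of_sub_eq hy] at P4 | rw [hy] at P4) <;> norm_num [-Nat.card_eq_fintype_card] at P4 <;> omega))

end CfsgLib.Involutions.GLTwoThree
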