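/-
Simplicity of a group with an involution centralizer isomorphic to GL(2,3) and one class of
involutions; facts about the centralizer read off the model.
-/
import Cfsg.Agent.Lib.Involutions.GLTwoThree.Order
import Cfsg.Agent.Lib.Involutions.DihedralEight

set_option autoImplicit false

open Cfsg

namespace CfsgLib.Involutions.GLTwoThree

universe u

theorem el_three : ∀ i : Idx, powI i 3 = 0 → i ≠ 0 → clsI i = 3 := by decide +kernel

theorem three_pow : ∀ i : Idx, clsI i = 3 → powI i 3 = 0 ∧ i ≠ 0 := by decide +kernel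

theorem three_conj_noncommute : ∀ i : Idx, clsI i = 3 →
    ∃ c : Idx, mulI (mulI (mulI c i) (invI c)) i ≠ mulI i (mulI (mulI c i) (invI c)) := by
  decide +kernel

theorem reflections_generate : ∀ i : Idx, ∃ a b : Idx, (clsI a = 0 ∨ clsI a = 2) ∧
    (clsI b = 0 ∨ clsI b = 2) ∧
    (clsI (mulI (invI (mulI a b)) i) = 0 ∨ clsI (mulI (invI (mulI a b)) i) = 2) := by
  decide +kernel

theorem reflection_order : ∀ i : Idx, clsI i = 2 → mulI i i = 0 ∧ i ≠ 0 ∧ i ≠ 31 ∧
    clsI (mulI 31 i) = 2 := by decide +kernel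

variable {G : Type u} [Group G] [Fintype G] {t : G}

include t in
theorem conj_mem_centralizer_of_normalizes (e : Subgroup.centralizer ({t} : Set G) ≃* M)
    (ht : orderOf t = 2) {y : G}
    (h : ∀ x ∈ pull e sylP, y * x * y⁻¹ ∈ pull e sylP ∧ y⁻¹ * x * y ∈ pull e sylP) :
    y ∈ Subgroup.centralizer ({t} : Set G) := by
  have htC : t ∈ Subgroup.centralizer ({t} : Set G) := Subgroup.mem_centralizer_singleton_iff.2 rfl
  have htP : t ∈ pull e sylP := (mem_pull e).2 ⟨htC, by rw [e_t e ht]; exact negI_mem_sylP⟩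
  obtain ⟨hyt, hyS⟩ := (mem_pull e).1 (h t htP).1
  have hyz : e ⟨_, hyt⟩ = negI := by
    refine center_sylP hyS (fun x hx => ?_) fun h' => ne_one ht
      (conj_eq_one_iff.1 (congrArg Subtype.val (e.map_eq_one_iff.1 h')))
    obtain ⟨c, rfl⟩ := e.surjective x
    rw [← map_mul, ← map_mul]
    refine congrArg e (Subtype.ext ?_)
    obtain ⟨hc', -⟩ := (mem_pull e).1
      (h c (show (c : G) ∈ pull e sylP from (mem_pull e).2 ⟨c.2, hx⟩)).2
    have h2 := Subgroup.mem_centralizer_singleton_iff.1 hc'
    show y * t * y⁻¹ * c = c * (y * t * y⁻¹)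
    calc y * t * y⁻¹ * c = y * (t * (y⁻¹ * c * y)) * y⁻¹ := by group
      _ = c * (y * t * y⁻¹) := by rw [← h2]; group
  rw [Subgroup.mem_centralizer_singleton_iff]
  exact mul_inv_eq_iff_eq_mul.1
    (congrArg Subtype.val (e.injective (hyz.trans (e_t e ht htC).symm)))

/-- A reflection in the centralizer, as an element of the group. -/
theorem exists_reflection (e : Subgroup.centralizer ({t} : Set G) ≃* M) (ht : orderOf t = 2)
    {i : Idx} (hi : clsI i = 2) :
    orderOf ((e.symm (el i) : G)) = 2 ∧ (e.symm (el i) : G) ≠ t ∧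
      t * (e.symm (el i) : G) = (e.symm (el i) : G) * t ∧
      orderOf (t * (e.symm (el i) : G)) = 2 := by
  obtain ⟨h1, h2, h3, h4⟩ := reflection_order i hi
  have key : ∀ j : Idx, mulI j j = 0 → j ≠ 0 → orderOf ((e.symm (el j) : G)) = 2 := by
    intro j hj hj0
    rw [Subgroup.orderOf_coe, MulEquiv.orderOf_eq]
    refine orderOf_eq_two_iff.2 ⟨by rw [el_mul, hj, el_zero], fun h => hj0 ?_⟩
    exact el_injective (h.trans el_zero.symm)
  have htC : t ∈ Subgroup.centralizer ({t} : Set G) := Subgroup.mem_centralizer_singleton_iff.2 rfl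
  have hr : (e.symm (el i) : G) ≠ t := fun h => by
    have : e.symm (el i) = ⟨t, htC⟩ := Subtype.ext h
    rw [MulEquiv.symm_apply_eq, e_t e ht] at this
    exact h3 (el_injective this)
  have hcomm := (Subgroup.mem_centralizer_singleton_iff.1 (e.symm (el i)).2).symm
  refine ⟨key i h1 h2, hr, hcomm, orderOf_eq_two_iff.2 ⟨?_, fun h => hr ?_⟩⟩
  · have hr2 := mul_self_eq_one (key i h1 h2)
    rw [mul_assoc, ← mul_assoc (e.symm (el i) : G), ← hcomm, mul_assoc, hr2, mul_one,
      mul_self_eq_one ht]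
  · exact ((inv_eq_of_mul_eq_one_right h).symm.trans (inv_eq_self ht))

include t in
theorem isSimpleGroup (e : Subgroup.centralizer ({t} : Set G) ≃* M) (ht : orderOf t = 2)
    (hone : ∀ x : G, orderOf x = 2 → IsConj t x) : IsSimpleGroup G := by
  classical
  haveI : Nontrivial G := ⟨⟨t, 1, ne_one ht⟩⟩
  refine ⟨fun N hN => ?_⟩
  haveI := hN
  have htC : t ∈ Subgroup.centralizer ({t} : Set G) := Subgroup.mem_centralizer_singleton_iff.2 rfl
  rcases Nat.even_or_odd (Nat.card N) with heven | hodd
  · -- even order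
    right
    haveI : Fact (Nat.Prime 2) := ⟨Nat.prime_two⟩
    obtain ⟨u, hu⟩ := exists_prime_orderOf_dvd_card' (G := N) 2 heven.two_dvd
    rw [← Subgroup.orderOf_coe] at hu
    have hinv : ∀ x : G, orderOf x = 2 → x ∈ N := fun x hx => by
      obtain ⟨c, hc⟩ := isConj_iff.1 ((hone _ hu).symm.trans (hone x hx))
      exact hc ▸ hN.conj_mem _ u.2 c
    have hC : Subgroup.centralizer ({t} : Set G) ≤ N := by
      intro g hg
      have hw : ∀ j : Idx, clsI j = 0 ∨ clsI j = 2 → (e.symm (el j) : G) ∈ N := by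
        rintro j (hj | hj)
        · rw [clsI_eq_zero j hj, el_zero, map_one, Subgroup.coe_one]
          exact N.one_mem
        · exact hinv _ (exists_reflection e ht hj).1
      obtain ⟨a, b, ha, hb, hc⟩ := reflections_generate (idx (e ⟨g, hg⟩))
      have : (⟨g, hg⟩ : Subgroup.centralizer ({t} : Set G)) =
          e.symm (el a) * e.symm (el b) * e.symm (el (mulI (invI (mulI a b)) (idx (e ⟨g, hg⟩)))) := by
        rw [← map_mul, ← map_mul, el_mul, ← el_mul (invI (mulI a b)), ← el_inv, mul_inv_cancel_left,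
          el_idx, e.symm_apply_apply]
      rw [show g = ((⟨g, hg⟩ : Subgroup.centralizer ({t} : Set G)) : G) from rfl, this]
      exact N.mul_mem (N.mul_mem (hw a ha) (hw b hb)) (hw _ hc)
    obtain ⟨P, hP⟩ := exists_sylow e ht
    have hPN : (P : Subgroup G) ≤ N := fun x hx => hC ((mem_pull e).1 (hP ▸ hx)).1
    have hfr := Sylow.normalizer_sup_eq_top' P hPN
    rw [eq_top_iff, ← hfr]
    refine sup_le (fun y hy => hC (conj_mem_centralizer_of_normalizes e ht fun x hx => ?_)) le_rfl
    rw [← hP] at hx ⊢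
    refine ⟨(Subgroup.mem_normalizer_iff.1 hy x).1 hx, ?_⟩
    simpa using (Subgroup.mem_normalizer_iff.1 (inv_mem hy) x).1 hx
  · -- odd order
    left
    have hfix : ∀ x ∈ N, x * t = t * x → x = 1 := by
      intro x hx hxt
      by_contra hx1
      set C := Subgroup.centralizer ({t} : Set G) with hC
      set K := N.subgroupOf C with hK
      have hxC : x ∈ C := Subgroup.mem_centralizer_singleton_iff.2 hxt
      have hKodd : Odd (Nat.card K) := by
        refine hodd.of_dvd_nat ?_
        rw [hK, ← Subgroup.card_map_of_injective C.subtype_injective, Subgroup.subgroupOf_map_subtype]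
        exact Subgroup.card_dvd_of_le inf_le_left
      have hK3 : Nat.card K = 3 := by
        have hd : Nat.card K ∣ 2 ^ 4 * 3 := by
          have := Subgroup.card_subgroup_dvd_card K
          rw [card_centralizer e] at this
          rwa [show 2 ^ 4 * 3 = 48 by norm_num]
        have hd3 : Nat.card K ∣ 3 :=
          (((Nat.coprime_two_left.2 hKodd).pow_left 4).symm).dvd_of_dvd_mul_left hd
        rcases (Nat.dvd_prime Nat.prime_three).1 hd3 with h | h
        · have hm : (⟨x, hxC⟩ : C) ∈ K := hx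
          rw [Subgroup.card_eq_one.1 h, Subgroup.mem_bot] at hm
          exact absurd (congrArg Subtype.val hm) hx1
        · exact h
      have hcyc : ∀ a ∈ K, ∀ b ∈ K, a * b = b * a := by
        haveI : Fact (Nat.Prime 3) := ⟨Nat.prime_three⟩
        haveI : IsCyclic K := isCyclic_of_prime_card hK3
        letI := IsCyclic.commGroup (α := K)
        exact fun a ha b hb => congrArg Subtype.val (mul_comm (⟨a, ha⟩ : K) ⟨b, hb⟩)
      have h3 : clsI (idx (e ⟨x, hxC⟩)) = 3 := by
        refine el_three _ ?_ fun h => hx1 (congrArg Subtype.val (e.map_eq_one_iff.1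
          ((eq_iff _ _).2 (h.trans idx_one.symm))))
        rw [← idx_pow, ← map_pow]
        have : (⟨x, hxC⟩ : C) ^ 3 = 1 := by
          rw [← orderOf_dvd_iff_pow_eq_one, ← hK3]
          exact Subgroup.orderOf_dvd_natCard _ (show (⟨x, hxC⟩ : C) ∈ K from hx)
        rw [this, map_one, idx_one]
      obtain ⟨c, hc⟩ := three_conj_noncommute _ h3
      haveI : K.Normal := inferInstance
      have hmem := (inferInstance : K.Normal).conj_mem ⟨x, hxC⟩ (show (⟨x, hxC⟩ : C) ∈ K from hx)
        (e.symm (el c))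
      have := congrArg (fun z => idx (e z)) (hcyc _ hmem _ (show (⟨x, hxC⟩ : C) ∈ K from hx))
      simp only [map_mul, map_inv, e.apply_symm_apply, idx_mul, idx_inv, idx_el] at this
      exact hc this
    have hfpf : ∀ s : G, orderOf s = 2 → ∀ x ∈ N, s * x = x * s → x = 1 := by
      intro s hs x hx hxs
      obtain ⟨c, hc⟩ := isConj_iff.1 (hone s hs)
      have := hfix (c⁻¹ * x * c) (by simpa using hN.conj_mem _ hx c⁻¹) (by
        calc c⁻¹ * x * c * t = c⁻¹ * (x * (c * t * c⁻¹)) * c := by group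
          _ = t * (c⁻¹ * x * c) := by rw [hc, ← hxs, ← hc]; group)
      rw [show c⁻¹ * x * c = c⁻¹ * x * c⁻¹⁻¹ by rw [inv_inv], conj_eq_one_iff] at this
      exact this
    obtain ⟨hr, hrt, hcomm, htr⟩ := exists_reflection e ht (clsI_repI 2)
    rw [eq_bot_iff]
    intro x hx
    refine Subgroup.mem_bot.2 (hfpf _ htr x hx (mul_inv_eq_iff_eq_mul.1 ?_))
    have i1 := conj_eq_inv_of_fixedPointFree ht N (hfpf t ht)
    have i2 := conj_eq_inv_of_fixedPointFree hr N (hfpf _ hr)
    generalize (e.symm (el (repI 2)) : G) = r at *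
    calc t * r * x * (t * r)⁻¹ = t * (r * x * r⁻¹) * t⁻¹ := by group
      _ = x := by rw [i2 x hx, i1 _ (N.inv_mem hx), inv_inv]

end CfsgLib.Involutions.GLTwoThree
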