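/-
The centralizer of an element of order three in a simple group of order 5616 with involution
centralizer GL(2,3).
-/
import Cfsg.Agent.Lib.Involutions.GLTwoThree.Simplicity

set_option autoImplicit false

open Cfsg

namespace CfsgLib.Involutions.GLTwoThree

universe u

variable {G : Type u} [Group G]

/-- A subgroup of index two in a centralizer absorbs the elements of odd order. -/
theorem exists_rad [Finite G] {v : G} {n : ℕ}
    (hC : Nat.card (Subgroup.centralizer ({v} : Set G)) = 2 * 3 ^ n) :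
    ∃ R : Subgroup G, Nat.card R = 3 ^ n ∧ R ≤ Subgroup.centralizer ({v} : Set G) ∧
      ∀ g ∈ Subgroup.centralizer ({v} : Set G), Odd (orderOf g) → g ∈ R := by
  haveI : Fact (Nat.Prime 3) := ⟨Nat.prime_three⟩
  set C := Subgroup.centralizer ({v} : Set G)
  obtain ⟨S, hS⟩ := Sylow.exists_subgroup_card_pow_prime (p := 3) (G := C) (n := n)
    (by rw [hC]; exact Dvd.intro_left _ rfl)
  have hidx : S.index = 2 := by
    have := S.card_mul_index
    rw [hS, hC, mul_comm 2] at this
    exact Nat.eq_of_mul_eq_mul_left (pow_pos three_pos n) this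
  refine ⟨S.map C.subtype, by rw [Subgroup.card_map_of_injective C.subtype_injective, hS],
    Subgroup.map_subtype_le _, fun g hg hodd => ⟨⟨g, hg⟩, ?_, rfl⟩⟩
  have h2 := Subgroup.mul_self_mem_of_index_two hidx (⟨g, hg⟩ : C)
  obtain ⟨m, hm⟩ := exists_pow_eq_self_of_coprime (x := (⟨g, hg⟩ : C)) (n := 2)
    (by rw [Subgroup.orderOf_mk]; exact (Nat.coprime_two_left.2 hodd))
  rw [pow_two] at hm
  exact hm ▸ S.pow_mem h2 m

theorem conj_closed_of_rad [Finite G] {v g : G} {R : Subgroup G}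
    (hR : R ≤ Subgroup.centralizer ({v} : Set G))
    (hmax : ∀ y ∈ Subgroup.centralizer ({v} : Set G), Odd (orderOf y) → y ∈ R)
    (hodd : Odd (Nat.card R))
    (hg : ∀ y ∈ Subgroup.centralizer ({v} : Set G), g * y * g⁻¹ ∈ Subgroup.centralizer ({v} : Set G)) :
    g ∈ Subgroup.normalizer (R : Set G) := by
  have hle : R.map (MulAut.conj g).toMonoidHom ≤ R := by
    rintro _ ⟨y, hy, rfl⟩
    refine hmax _ (hg y (hR hy)) ?_
    show Odd (orderOf (g * y * g⁻¹))
    rw [orderOf_conj]
    exact hodd.of_dvd_nat (Subgroup.orderOf_dvd_natCard _ hy)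
  have heq := Subgroup.eq_of_le_of_card_ge hle (le_of_eq (Subgroup.card_map_of_injective
    (MulAut.conj g).injective).symm)
  rw [Subgroup.mem_normalizer_iff]
  intro y
  constructor
  · intro hy
    exact heq ▸ ⟨y, hy, rfl⟩
  · intro hy
    rw [← heq] at hy
    obtain ⟨z, hz, hzy⟩ := hy
    exact (MulAut.conj g).injective hzy ▸ hz

theorem normalizes_of_centralizes_or_inverts {v g : G}
    (hg : g * v * g⁻¹ = v ∨ g * v * g⁻¹ = v⁻¹) :
    ∀ y ∈ Subgroup.centralizer ({v} : Set G), g * y * g⁻¹ ∈ Subgroup.centralizer ({v} : Set G) := by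
  intro y hy
  rw [Subgroup.mem_centralizer_singleton_iff] at hy ⊢
  have hc : Commute (g * y * g⁻¹) (g * v * g⁻¹) := by
    show g * y * g⁻¹ * (g * v * g⁻¹) = g * v * g⁻¹ * (g * y * g⁻¹)
    calc g * y * g⁻¹ * (g * v * g⁻¹) = g * (y * v) * g⁻¹ := by group
      _ = _ := by rw [hy]; group
  rcases hg with h | h <;> rw [h] at hc
  · exact hc.eq
  · exact (Commute.inv_right_iff.1 hc).eq

/-- Conjugates of `x` under a subgroup, times the stabiliser. -/
theorem card_conjOrbit_mul [Finite G] (H : Subgroup G) (x : G) :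
    Nat.card {y : G // ∃ h ∈ H, h * x * h⁻¹ = y} *
      Nat.card (H ⊓ Subgroup.centralizer ({x} : Set G) : Subgroup G) = Nat.card H := by
  letI : MulAction H G := MulAction.compHom G (ConjAct.toConjAct.toMonoidHom.comp H.subtype)
  have hsmul : ∀ (h : H) (y : G), h • y = (h : G) * y * (h : G)⁻¹ := fun h y => rfl
  have h1 := Nat.card_congr (MulAction.orbitProdStabilizerEquivGroup H x)
  rw [Nat.card_prod] at h1
  have eo : Nat.card (MulAction.orbit H x) = Nat.card {y : G // ∃ h ∈ H, h * x * h⁻¹ = y} :=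
    Nat.card_congr (Equiv.subtypeEquivRight fun y =>
      ⟨fun ⟨h, hh⟩ => ⟨h, h.2, (hsmul h x).symm.trans hh⟩,
        fun ⟨h, hh, he⟩ => ⟨⟨h, hh⟩, (hsmul ⟨h, hh⟩ x).trans he⟩⟩)
  have es : Nat.card (MulAction.stabilizer H x) =
      Nat.card (H ⊓ Subgroup.centralizer ({x} : Set G) : Subgroup G) := by
    refine Nat.card_congr
      { toFun := fun h => ⟨(h : H), (h : H).2, Subgroup.mem_centralizer_singleton_iff.2
          (mul_inv_eq_iff_eq_mul.1 ((hsmul h x).symm.trans h.2))⟩
        invFun := fun h => ⟨⟨h, h.2.1⟩, by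
          rw [MulAction.mem_stabilizer_iff, hsmul]
          exact mul_inv_eq_iff_eq_mul.2 (Subgroup.mem_centralizer_singleton_iff.1 h.2.2)⟩
        left_inv := fun h => rfl
        right_inv := fun h => rfl }
  rw [← eo, ← es]
  exact h1

/-- The group of order 5616 to be identified. -/
structure Setup (G : Type u) [Group G] [Fintype G] where
  /-- The involution. -/
  t : G
  /-- Its centralizer is the model. -/
  e : Subgroup.centralizer ({t} : Set G) ≃* M
  ht : orderOf t = 2
  hone : ∀ x : G, orderOf x = 2 → IsConj t x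
  simple : IsSimpleGroup G
  hcard : Nat.card G = 5616

namespace Setup

variable [Fintype G] (S : Setup G)

/-- An element of order three commuting with the involution. -/
noncomputable def x₀ : G := (S.e.symm (el 6) : G)

theorem el_six : clsI 6 = 3 := by decide +kernel

theorem x₀_comm : S.x₀ * S.t = S.t * S.x₀ :=
  Subgroup.mem_centralizer_singleton_iff.1 (S.e.symm (el 6)).2

theorem x₀_order : orderOf S.x₀ = 3 := by
  haveI : Fact (Nat.Prime 3) := ⟨Nat.prime_three⟩
  rw [x₀, Subgroup.orderOf_coe, MulEquiv.orderOf_eq]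
  obtain ⟨h1, h2⟩ := three_pow 6 el_six
  exact orderOf_eq_prime (by rw [eq_iff, idx_pow, idx_el, h1, idx_one])
    (fun h => h2 (el_injective (h.trans el_zero.symm)))

theorem isConj_of_commute {s v : G} (hs : orderOf s = 2) (hv : orderOf v = 3) (h : v * s = s * v) :
    IsConj S.x₀ v := by
  obtain ⟨c, hc⟩ := isConj_iff.1 (S.hone s hs)
  have hC : c⁻¹ * v * c ∈ Subgroup.centralizer ({S.t} : Set G) := by
    rw [Subgroup.mem_centralizer_singleton_iff]
    calc c⁻¹ * v * c * S.t = c⁻¹ * (v * (c * S.t * c⁻¹)) * c := by group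
      _ = S.t * (c⁻¹ * v * c) := by rw [hc, h, ← hc]; group
  have h3 : cls (S.e ⟨_, hC⟩) = 3 := by
    have ho : orderOf (c⁻¹ * v * c) = 3 := by
      rw [show c⁻¹ * v * c = c⁻¹ * v * c⁻¹⁻¹ by rw [inv_inv], orderOf_conj, hv]
    refine el_three _ ?_ fun h => ?_
    · rw [← idx_pow, ← map_pow]
      have : (⟨_, hC⟩ : Subgroup.centralizer ({S.t} : Set G)) ^ 3 = 1 :=
        Subtype.ext (by rw [SubgroupClass.coe_pow, ← ho]; exact pow_orderOf_eq_one _)
      rw [this, map_one, idx_one]
    · have : c⁻¹ * v * c = 1 := congrArg Subtype.val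
        (S.e.map_eq_one_iff.1 ((eq_iff _ _).2 (h.trans idx_one.symm)))
      rw [this, orderOf_one] at ho
      omega
  obtain ⟨d, hd⟩ := exists_conj_rep (S.e ⟨_, hC⟩)
  rw [h3] at hd
  have hd' := congrArg (fun z => (S.e.symm z : G)) hd
  simp only [map_mul, map_inv, S.e.symm_apply_apply, Subgroup.coe_mul, Subgroup.coe_inv] at hd'
  refine (isConj_iff.2 ⟨c, ?_⟩ : IsConj (c⁻¹ * v * c) v).symm.trans (isConj_iff.2 ⟨_, hd'⟩) |>.symm
  group

theorem centralizer_three_small {i j : Idx} (hi : clsI i = 3) (h : mulI i j = mulI j i)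
    (h16 : powI j 16 = 0) : j = 0 ∨ j = 31 := by
  have key : ∀ i j : Idx, clsI i = 3 → mulI i j = mulI j i → powI j 16 = 0 → j = 0 ∨ j = 31 := by
    decide +kernel
  exact key i j hi h h16

theorem six_dvd : 6 ∣ Nat.card (Subgroup.centralizer ({S.x₀} : Set G)) := by
  have h2 := Subgroup.orderOf_dvd_natCard (Subgroup.centralizer ({S.x₀} : Set G))
    (Subgroup.mem_centralizer_singleton_iff.2 S.x₀_comm.symm)
  have h3 := Subgroup.orderOf_dvd_natCard (Subgroup.centralizer ({S.x₀} : Set G))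
    (Subgroup.mem_centralizer_singleton_iff.2 (rfl : S.x₀ * S.x₀ = S.x₀ * S.x₀))
  rw [S.ht] at h2
  rw [S.x₀_order] at h3
  exact Nat.Coprime.mul_dvd_of_dvd_of_dvd (by norm_num : Nat.Coprime 2 3) h2 h3

theorem not_four_dvd : ¬ 4 ∣ Nat.card (Subgroup.centralizer ({S.x₀} : Set G)) := by
  haveI : Fact (Nat.Prime 2) := ⟨Nat.prime_two⟩
  intro h4
  set C := Subgroup.centralizer ({S.x₀} : Set G) with hC
  have htC : S.t ∈ C := Subgroup.mem_centralizer_singleton_iff.2 S.x₀_comm.symm
  have hz : IsPGroup 2 (Subgroup.zpowers (⟨S.t, htC⟩ : C)) :=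
    IsPGroup.of_card (n := 1) (by rw [Nat.card_zpowers, Subgroup.orderOf_mk, S.ht, pow_one])
  obtain ⟨T, hT⟩ := hz.exists_le_sylow
  have h4T : 4 ∣ Nat.card (T : Subgroup C) := T.pow_dvd_card_of_pow_dvd_card (n := 2) h4
  haveI : Group.IsNilpotent (T : Subgroup C) := T.isPGroup'.isNilpotent
  have hne : (Subgroup.zpowers (⟨S.t, htC⟩ : C)).subgroupOf (T : Subgroup C) < ⊤ := by
    refine lt_top_iff_ne_top.2 fun h => ?_
    have := Subgroup.card_dvd_of_le (Subgroup.subgroupOf_eq_top.1 h)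
    rw [Nat.card_zpowers, Subgroup.orderOf_mk, S.ht] at this
    have := Nat.le_of_dvd two_pos (h4T.trans this)
    omega
  obtain ⟨y, hyN, hy⟩ := SetLike.exists_of_lt (Group.normalizerCondition_of_isNilpotent _ hne)
  have htT : (⟨S.t, htC⟩ : C) ∈ (T : Subgroup C) := hT (Subgroup.mem_zpowers _)
  have hconj : (y : C) * ⟨S.t, htC⟩ * (y : C)⁻¹ ∈ Subgroup.zpowers (⟨S.t, htC⟩ : C) :=
    (Subgroup.mem_normalizer_iff.1 hyN ⟨_, htT⟩).1 (Subgroup.mem_zpowers (⟨S.t, htC⟩ : C))
  obtain ⟨k, hk⟩ := Subgroup.mem_zpowers_iff.1 hconj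
  have hk' : (S.t) ^ k = ((y : C) : G) * S.t * ((y : C) : G)⁻¹ := congrArg Subtype.val hk
  have hyt : ((y : C) : G) * S.t * ((y : C) : G)⁻¹ = S.t := by
    rcases Int.even_or_odd' k with ⟨m, rfl | rfl⟩
    · rw [zpow_mul, zpow_two, mul_self_eq_one S.ht, one_zpow] at hk'
      exact absurd (conj_eq_one_iff.1 hk'.symm) (ne_one S.ht)
    · rw [zpow_add, zpow_mul, zpow_two, mul_self_eq_one S.ht, one_zpow, zpow_one, one_mul] at hk'
      exact hk'.symm
  have hyC : ((y : C) : G) ∈ Subgroup.centralizer ({S.t} : Set G) :=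
    Subgroup.mem_centralizer_singleton_iff.2 (mul_inv_eq_iff_eq_mul.1 hyt)
  -- the image in the model
  obtain ⟨m, hm⟩ := T.isPGroup' y
  have hord : orderOf (S.e ⟨_, hyC⟩) ∣ 2 ^ m := by
    rw [MulEquiv.orderOf_eq, Subgroup.orderOf_mk, Subgroup.orderOf_coe, Subgroup.orderOf_coe]
    exact orderOf_dvd_of_pow_eq_one hm
  have h48 : orderOf (S.e ⟨_, hyC⟩) ∣ 16 * 3 := by
    have := orderOf_dvd_natCard (S.e ⟨_, hyC⟩)
    rwa [card_M] at this
  have h16 : powI (idx (S.e ⟨_, hyC⟩)) 16 = 0 := by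
    rw [← idx_pow, ← idx_one, ← eq_iff, ← orderOf_dvd_iff_pow_eq_one]
    exact (((by norm_num : Nat.Coprime 2 3).pow_left m).coprime_dvd_left hord).dvd_of_dvd_mul_right h48
  have hcomm : mulI 6 (idx (S.e ⟨_, hyC⟩)) = mulI (idx (S.e ⟨_, hyC⟩)) 6 := by
    have h1 : (S.e.symm (el 6)) * ⟨_, hyC⟩ = ⟨_, hyC⟩ * S.e.symm (el 6) :=
      Subtype.ext (Subgroup.mem_centralizer_singleton_iff.1 (y : C).2).symm
    have := congrArg (fun z => idx (S.e z)) h1
    simpa only [map_mul, S.e.apply_symm_apply, idx_mul, idx_el] using this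
  refine hy (Subgroup.mem_subgroupOf.2 ?_)
  rcases centralizer_three_small el_six hcomm h16 with h | h
  · have h1 : ((y : C) : G) = 1 := congrArg Subtype.val
      (S.e.map_eq_one_iff.1 ((eq_iff _ _).2 (h.trans idx_one.symm)))
    rw [show (y : C) = 1 from Subtype.ext h1]
    exact one_mem _
  · have h1 : S.e ⟨_, hyC⟩ = negI := (eq_iff _ _).2 (h.trans idx_negI.symm)
    rw [← e_t S.e S.ht (Subgroup.mem_centralizer_singleton_iff.2 rfl)] at h1
    have h2 : (y : C) = ⟨S.t, htC⟩ := Subtype.ext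
      (show ((y : C) : G) = S.t from congrArg Subtype.val (S.e.injective h1))
    rw [h2]
    exact Subgroup.mem_zpowers _

theorem not_thirteen_dvd : ¬ 13 ∣ Nat.card (Subgroup.centralizer ({S.x₀} : Set G)) := by
  haveI : Fact (Nat.Prime 13) := ⟨by norm_num⟩
  intro h13
  set C := Subgroup.centralizer ({S.x₀} : Set G) with hC
  obtain ⟨Y⟩ := (inferInstance : Nonempty (Sylow 13 C))
  have hY : Nat.card (Y : Subgroup C) = 13 := by
    have hd : Nat.card (Y : Subgroup C) ∣ 5616 :=
      ((Subgroup.card_subgroup_dvd_card _).trans (Subgroup.card_subgroup_dvd_card C)).trans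
        (by rw [S.hcard])
    obtain ⟨k, hk⟩ := Y.isPGroup'.exists_card_eq
    have h1 : 13 ^ 1 ∣ Nat.card (Y : Subgroup C) :=
      Y.pow_dvd_card_of_pow_dvd_card (by rwa [pow_one])
    rw [hk] at hd h1
    have hk1 : 1 ≤ k := (Nat.pow_dvd_pow_iff_le_right (by norm_num)).1 h1
    have hk2 : k ≤ 1 := by
      by_contra h
      have := (pow_dvd_pow 13 (show 2 ≤ k by omega)).trans hd
      norm_num at this
    rw [hk, show k = 1 by omega, pow_one]
  have hCd : Nat.card C ∣ 5616 := S.hcard ▸ Subgroup.card_subgroup_dvd_card C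
  obtain ⟨c, hc⟩ := h13
  have hc432 : c ∣ 432 := by
    rw [hc, show 5616 = 13 * 432 by norm_num] at hCd
    exact Nat.dvd_of_mul_dvd_mul_left (by norm_num) hCd
  have hc4 : ¬ 4 ∣ c := fun h => S.not_four_dvd (h.trans (hc ▸ dvd_mul_left c 13))
  have hc6 : 6 ∣ c := by
    have := S.six_dvd
    rw [hc] at this
    exact (by norm_num : Nat.Coprime 6 13).dvd_of_dvd_mul_left this
  -- the Sylow subgroup is normal
  set n := Nat.card (Sylow 13 C)
  have hidx : (Y : Subgroup C).index = c := by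
    have := (Y : Subgroup C).card_mul_index
    rw [hY, hc] at this
    omega
  have hnd : n ∣ c := hidx ▸ Y.card_dvd_index
  have hn1 : n % 13 = 1 := card_sylow_modEq_one 13 C
  have hc54 : c ∣ 54 := by
    have hcle := Nat.le_of_dvd (by norm_num) hc432
    interval_cases c <;> omega
  have hN : Nat.card (Sylow 13 C) =
      (Subgroup.normalizer ((Y : Subgroup C) : Set C)).index := Y.card_eq_index_normalizer
  set NY := Subgroup.normalizer ((Y : Subgroup C) : Set C)
  have hn : n = 1 := by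
    have hle := Nat.le_of_dvd (by norm_num) (hnd.trans hc54)
    have : n = 1 ∨ n = 27 := by
      have := hnd.trans hc54
      interval_cases n <;> omega
    rcases this with h | h
    · exact h
    exfalso
    have h1 := NY.card_mul_index
    rw [← hN] at h1
    change Nat.card NY * n = _ at h1
    rw [h, hc] at h1
    have hx : (⟨S.x₀, Subgroup.mem_centralizer_singleton_iff.2 rfl⟩ : C) ∈ NY := by
      rw [Subgroup.mem_normalizer_iff]
      intro y
      have : (⟨S.x₀, Subgroup.mem_centralizer_singleton_iff.2 rfl⟩ : C) * y *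
          (⟨S.x₀, Subgroup.mem_centralizer_singleton_iff.2 rfl⟩ : C)⁻¹ = y :=
        mul_inv_eq_iff_eq_mul.2 (Subtype.ext (Subgroup.mem_centralizer_singleton_iff.1 y.2).symm)
      rw [this]
    have h3 := Subgroup.orderOf_dvd_natCard _ hx
    rw [Subgroup.orderOf_mk, S.x₀_order] at h3
    have hc27 : 27 ∣ c := h ▸ hnd
    have : c = 54 := by
      have := Nat.le_of_dvd (by norm_num) hc54
      omega
    rw [this] at h1
    have hNY : Nat.card NY = 26 := by omega
    rw [hNY] at h3
    norm_num at h3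
  haveI : Subsingleton (Sylow 13 C) := (Nat.card_eq_one_iff_unique.1 hn).1
  have hYn : (Y : Subgroup C).Normal := Y.normal_of_subsingleton
  set Y' := (Y : Subgroup C).map C.subtype with hY'
  have hY'c : Nat.card Y' = 13 := by rw [hY', Subgroup.card_map_of_injective C.subtype_injective, hY]
  -- so the centralizer normalizes a subgroup of order thirteen with normalizer too large
  have hle : C ≤ Subgroup.normalizer (Y' : Set G) := by
    intro g hg
    rw [Subgroup.mem_normalizer_iff]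
    intro y
    constructor
    · rintro ⟨z, hz, rfl⟩
      exact ⟨⟨g, hg⟩ * z * ⟨g, hg⟩⁻¹, hYn.conj_mem z hz _, rfl⟩
    · rintro ⟨z, hz, hzy⟩
      refine ⟨⟨g, hg⟩⁻¹ * z * ⟨g, hg⟩, (by simpa using hYn.conj_mem z hz (⟨g, hg⟩ : C)⁻¹ :
        _ ∈ (Y : Subgroup C)), ?_⟩
      have hzy' : (z : G) = g * y * g⁻¹ := hzy
      show g⁻¹ * (z : G) * g = y
      rw [hzy']; group
  have hd := Subgroup.card_dvd_of_le hle
  have h78 : 78 ∣ Nat.card (Subgroup.normalizer (Y' : Set G)) := by
    refine dvd_trans ?_ hd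
    rw [hc, show 78 = 13 * 6 by norm_num]
    exact Nat.mul_dvd_mul_left 13 hc6
  haveI := S.simple
  have hYp : IsPGroup 13 Y' := IsPGroup.of_card (n := 1) (by rw [hY'c, pow_one])
  obtain ⟨Z, hZ⟩ := hYp.exists_le_sylow
  have hZeq : (Z : Subgroup G) = Y' := (Subgroup.eq_of_le_of_card_ge hZ (by
    rw [hY'c, Z.card_eq_multiplicity, S.hcard]
    refine le_of_eq ?_
    have h1 : (5616 : ℕ).factorization 13 = 1 := by
      rw [show (5616 : ℕ) = 13 ^ 1 * 432 by norm_num]
      rw [Nat.factorization_mul (by norm_num) (by norm_num), Finsupp.add_apply,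
        Nat.Prime.factorization_pow (by norm_num), Finsupp.single_eq_same,
        Nat.factorization_eq_zero_of_not_dvd (by norm_num)]
    rw [h1, pow_one])).symm
  have hN2 : Nat.card (Sylow 13 G) =
      (Subgroup.normalizer ((Z : Subgroup G) : Set G)).index := Z.card_eq_index_normalizer
  rw [hZeq] at hN2
  have hn2 : Nat.card (Sylow 13 G) % 13 = 1 := card_sylow_modEq_one 13 G
  have hmul := (Subgroup.normalizer (Y' : Set G)).card_mul_index
  rw [← hN2, S.hcard] at hmul
  obtain ⟨d, hd'⟩ := h78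
  rw [hd'] at hmul
  have hnd2 : Nat.card (Sylow 13 G) ∣ 72 := Dvd.intro_left d (by
    apply Nat.eq_of_mul_eq_mul_left (by norm_num : 0 < 78)
    rw [← mul_assoc, hmul])
  have hone : Nat.card (Sylow 13 G) = 1 := by
    have hle := Nat.le_of_dvd (by norm_num) hnd2
    interval_cases Nat.card (Sylow 13 G) <;> omega
  haveI : Subsingleton (Sylow 13 G) := (Nat.card_eq_one_iff_unique.1 hone).1
  rcases (Z.normal_of_subsingleton).eq_bot_or_eq_top with h | h <;>
    · have h13' : Nat.card (Z : Subgroup G) = 13 := by rw [hZeq, hY'c]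
      rw [h] at h13'
      first
        | (rw [Subgroup.card_bot] at h13'; omega)
        | (rw [Subgroup.card_top, S.hcard] at h13'; omega)

theorem card_centralizer_x₀_cases :
    Nat.card (Subgroup.centralizer ({S.x₀} : Set G)) = 18 ∨
      Nat.card (Subgroup.centralizer ({S.x₀} : Set G)) = 54 := by
  haveI : Fact (Nat.Prime 3) := ⟨Nat.prime_three⟩
  have hd : Nat.card (Subgroup.centralizer ({S.x₀} : Set G)) ∣ 5616 :=
    S.hcard ▸ Subgroup.card_subgroup_dvd_card _
  have h6 := S.six_dvd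
  have h4 := S.not_four_dvd
  have h13 := S.not_thirteen_dvd
  have h54 : Nat.card (Subgroup.centralizer ({S.x₀} : Set G)) ∣ 432 := by
    rw [show 5616 = 13 * 432 by norm_num] at hd
    exact (((Nat.Prime.coprime_iff_not_dvd (by norm_num)).2 h13).symm).dvd_of_dvd_mul_left hd
  have hle := Nat.le_of_dvd (by norm_num) h54
  have hcases : Nat.card (Subgroup.centralizer ({S.x₀} : Set G)) = 6 ∨
      Nat.card (Subgroup.centralizer ({S.x₀} : Set G)) = 18 ∨
      Nat.card (Subgroup.centralizer ({S.x₀} : Set G)) = 54 := by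
    interval_cases hk : Nat.card (Subgroup.centralizer ({S.x₀} : Set G)) <;> omega
  rcases hcases with h | h
  swap; · exact h
  exfalso
  -- a Sylow subgroup of order 27 contains `x₀`
  have hz : IsPGroup 3 (Subgroup.zpowers S.x₀) :=
    IsPGroup.of_card (n := 1) (by rw [Nat.card_zpowers, S.x₀_order, pow_one])
  obtain ⟨R, hR⟩ := hz.exists_le_sylow
  have h27 : 27 ∣ Nat.card (R : Subgroup G) :=
    R.pow_dvd_card_of_pow_dvd_card (n := 3) (by rw [S.hcard]; norm_num)
  haveI : Nontrivial (R : Subgroup G) := Finite.one_lt_card_iff_nontrivial.1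
    (lt_of_lt_of_le (by norm_num) (Nat.le_of_dvd Nat.card_pos h27))
  have hZ : Nontrivial (Subgroup.center (R : Subgroup G)) := R.isPGroup'.center_nontrivial
  obtain ⟨z, hz1⟩ := exists_ne (1 : Subgroup.center (R : Subgroup G))
  have hzC : ((z : (R : Subgroup G)) : G) ∈ Subgroup.centralizer ({S.x₀} : Set G) :=
    Subgroup.mem_centralizer_singleton_iff.2
      (congrArg Subtype.val ((Subgroup.mem_center_iff.1 z.2) ⟨S.x₀, hR (Subgroup.mem_zpowers _)⟩)).symm
  obtain ⟨P, hPc, hPle, hPmax⟩ := exists_rad (v := S.x₀) (n := 1) (by rw [h]; norm_num)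
  have hoddR : ∀ g ∈ (R : Subgroup G), Odd (orderOf g) := fun g hg => by
    obtain ⟨k, hk⟩ := R.isPGroup' ⟨g, hg⟩
    exact (Odd.pow (by decide : Odd 3)).of_dvd_nat
      (orderOf_dvd_of_pow_eq_one (congrArg Subtype.val hk))
  have hPz : P = Subgroup.zpowers S.x₀ := (Subgroup.eq_of_le_of_card_ge (Subgroup.zpowers_le.2
    (hPmax _ (Subgroup.mem_centralizer_singleton_iff.2 rfl) (by rw [S.x₀_order]; decide)))
    (by rw [hPc, Nat.card_zpowers, S.x₀_order]; norm_num)).symm
  have hzx : ((z : (R : Subgroup G)) : G) ∈ Subgroup.zpowers S.x₀ :=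
    hPz ▸ hPmax _ hzC (hoddR _ (z : (R : Subgroup G)).2)
  have hxz : Subgroup.zpowers ((z : (R : Subgroup G)) : G) = Subgroup.zpowers S.x₀ := by
    refine Subgroup.eq_of_le_of_card_ge (Subgroup.zpowers_le.2 hzx) ?_
    have hd := Subgroup.card_dvd_of_le (Subgroup.zpowers_le.2 hzx)
    rw [Nat.card_zpowers, Nat.card_zpowers, S.x₀_order] at hd ⊢
    rcases (Nat.dvd_prime Nat.prime_three).1 hd with h1 | h1
    · exact absurd (Subtype.ext (Subtype.ext (orderOf_eq_one_iff.1 h1))) hz1
    · exact h1.ge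
  have hRC : (R : Subgroup G) ≤ Subgroup.centralizer ({S.x₀} : Set G) := by
    intro g hg
    obtain ⟨k, hk⟩ := Subgroup.mem_zpowers_iff.1 (hxz ▸ Subgroup.mem_zpowers S.x₀)
    rw [Subgroup.mem_centralizer_singleton_iff, ← hk]
    exact (Commute.zpow_right (show Commute g _ from
      congrArg Subtype.val ((Subgroup.mem_center_iff.1 z.2) ⟨g, hg⟩)) k).eq
  have := h27.trans (Subgroup.card_dvd_of_le hRC)
  rw [h] at this
  norm_num at this

end Setup

end CfsgLib.Involutions.GLTwoThree
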