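/-
The centralizer of an element of order three has order 54, and its normalizer data.
-/
import Cfsg.Agent.Lib.Involutions.GLTwoThree.ThreeLocal

set_option autoImplicit false

open Cfsg

namespace CfsgLib.Involutions.GLTwoThree

universe u

variable {G : Type u} [Group G]

/-- The products of powers of two commuting elements of order dividing three. -/
def pairSub {x y : G} (h : Commute x y) (hx : x ^ 3 = 1) (hy : y ^ 3 = 1) : Subgroup G where
  carrier := {g | ∃ i j : ℕ, g = x ^ i * y ^ j}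
  one_mem' := ⟨0, 0, by simp⟩
  mul_mem' := by
    rintro _ _ ⟨i, j, rfl⟩ ⟨k, l, rfl⟩
    exact ⟨i + k, j + l, by
      rw [pow_add, pow_add, mul_assoc, ← mul_assoc (y ^ j), (h.symm.pow_pow j k).eq]; group⟩
  inv_mem' := by
    rintro _ ⟨i, j, rfl⟩
    refine ⟨2 * i, 2 * j, (eq_inv_of_mul_eq_one_left ?_).symm⟩
    rw [mul_assoc, ← mul_assoc (y ^ (2 * j)), (h.symm.pow_pow (2 * j) i).eq, mul_assoc (x ^ i),
      ← mul_assoc (x ^ (2 * i)), ← pow_add, ← pow_add, show 2 * i + i = 3 * i by ring,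
      show 2 * j + j = 3 * j by ring, pow_mul, pow_mul, hx, hy, one_pow, one_pow, one_mul]

theorem mem_pairSub {x y : G} {h : Commute x y} {hx : x ^ 3 = 1} {hy : y ^ 3 = 1} {g : G} :
    g ∈ pairSub h hx hy ↔ ∃ i j : ℕ, g = x ^ i * y ^ j :=
  Iff.rfl

theorem pow_mod_three {x : G} (hx : x ^ 3 = 1) (i : ℕ) : x ^ i = x ^ (i % 3) := by
  conv_lhs => rw [← Nat.div_add_mod i 3, pow_add, pow_mul, hx, one_pow, one_mul]

theorem pair_eq_one {x y : G} (hy : y ^ 3 = 1) (hx : orderOf x = 3)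
    (hn : y ∉ Subgroup.zpowers x) {i j : ℕ} (h : x ^ i * y ^ j = 1) : i % 3 = 0 ∧ j % 3 = 0 := by
  have hj : j % 3 = 0 := by
    by_contra hj
    apply hn
    have hm : y ^ j ∈ Subgroup.zpowers x := by
      rw [eq_inv_of_mul_eq_one_right h]
      exact inv_mem (Subgroup.pow_mem _ (Subgroup.mem_zpowers x) i)
    have : (y ^ j) ^ j = y := by
      rw [← pow_mul, pow_mod_three hy]
      have : j * j % 3 = 1 := by
        rw [Nat.mul_mod]
        rcases (show j % 3 = 1 ∨ j % 3 = 2 by omega) with h | h <;> rw [h]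
      rw [this, pow_one]
    exact this ▸ Subgroup.pow_mem _ hm j
  refine ⟨?_, hj⟩
  rw [pow_mod_three hy j, hj, pow_zero, mul_one] at h
  have := orderOf_dvd_of_pow_eq_one h
  rw [hx] at this
  omega

/-- The exponents determine the element. -/
noncomputable def pairEquiv {x y : G} (h : Commute x y) (hx : orderOf x = 3) (hy : y ^ 3 = 1)
    (hn : y ∉ Subgroup.zpowers x) :
    Fin 3 × Fin 3 ≃ pairSub h (hx ▸ pow_orderOf_eq_one x) hy :=
  Equiv.ofBijective (fun p => ⟨x ^ (p.1 : ℕ) * y ^ (p.2 : ℕ), _, _, rfl⟩)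
    ⟨fun p q hpq => by
      have hx3 : x ^ 3 = 1 := hx ▸ pow_orderOf_eq_one x
      have h' : x ^ (p.1 : ℕ) * y ^ (p.2 : ℕ) = x ^ (q.1 : ℕ) * y ^ (q.2 : ℕ) :=
        congrArg Subtype.val hpq
      have h0 : x ^ ((p.1 : ℕ) + 2 * q.1) * y ^ ((p.2 : ℕ) + 2 * q.2) = 1 := by
        rw [pow_add, pow_add, mul_assoc, ← mul_assoc (x ^ (2 * (q.1 : ℕ))),
          (h.pow_pow (2 * q.1) p.2).eq, mul_assoc (y ^ (p.2 : ℕ)), ← mul_assoc, h',
          mul_assoc, ← mul_assoc (y ^ (q.2 : ℕ)), ← (h.pow_pow (2 * q.1) q.2).eq,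
          mul_assoc (x ^ (2 * (q.1 : ℕ))), ← mul_assoc, ← pow_add, ← pow_add,
          show (q.1 : ℕ) + 2 * q.1 = 3 * q.1 by ring, show (q.2 : ℕ) + 2 * q.2 = 3 * q.2 by ring,
          pow_mul, pow_mul, hx3, hy, one_pow, one_pow, one_mul]
      obtain ⟨h1, h2⟩ := pair_eq_one hy hx hn h0
      have := p.1.2
      have := p.2.2
      have := q.1.2
      have := q.2.2
      ext <;> omega,
    fun g => by
      obtain ⟨i, j, hg⟩ := g.2
      exact ⟨(⟨i % 3, Nat.mod_lt _ (by norm_num)⟩, ⟨j % 3, Nat.mod_lt _ (by norm_num)⟩),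
        Subtype.ext (by
          rw [hg]
          exact (congr_arg₂ _ (pow_mod_three (hx ▸ pow_orderOf_eq_one x) i)
            (pow_mod_three hy j)).symm)⟩⟩

theorem card_pairSub {x y : G} (h : Commute x y) (hx : orderOf x = 3) (hy : y ^ 3 = 1)
    (hn : y ∉ Subgroup.zpowers x) :
    Nat.card (pairSub h (hx ▸ pow_orderOf_eq_one x) hy) = 9 := by
  rw [← Nat.card_congr (pairEquiv h hx hy hn)]
  simp

theorem card_centralizer_eq_of_isConj [Finite G] {a b : G} (h : IsConj a b) :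
    Nat.card (Subgroup.centralizer ({b} : Set G)) =
      Nat.card (Subgroup.centralizer ({a} : Set G)) := by
  obtain ⟨c, hc⟩ := isConj_iff.1 h
  have : (Subgroup.centralizer ({a} : Set G)).map (MulAut.conj c).toMonoidHom =
      Subgroup.centralizer ({b} : Set G) := by
    ext y
    constructor
    · rintro ⟨z, hz, rfl⟩
      rw [SetLike.mem_coe, Subgroup.mem_centralizer_singleton_iff] at hz
      rw [Subgroup.mem_centralizer_singleton_iff]
      show c * z * c⁻¹ * b = b * (c * z * c⁻¹)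
      rw [← hc]
      calc c * z * c⁻¹ * (c * a * c⁻¹) = c * (z * a) * c⁻¹ := by group
        _ = _ := by rw [hz]; group
    · intro hy
      rw [Subgroup.mem_centralizer_singleton_iff] at hy
      refine ⟨c⁻¹ * y * c, ?_, by show c * (c⁻¹ * y * c) * c⁻¹ = y; group⟩
      rw [SetLike.mem_coe, Subgroup.mem_centralizer_singleton_iff]
      calc c⁻¹ * y * c * a = c⁻¹ * (y * b) * c := by rw [← hc]; group
        _ = _ := by rw [hy, ← hc]; group
  rw [← this, Subgroup.card_map_of_injective (MulAut.conj c).injective]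

theorem conj_mul_self {s : G} (hs : orderOf s = 2) (y : G) : s * (s * y * s) * s = y := by
  have h := mul_self_eq_one hs
  calc s * (s * y * s) * s = (s * s) * y * (s * s) := by group
    _ = y := by rw [h, one_mul, mul_one]

theorem conj_of_inv {s : G} (hs : orderOf s = 2) (y : G) : s * y * s⁻¹ = s * y * s := by
  rw [inv_eq_of_mul_eq_one_right (mul_self_eq_one hs)]

namespace Setup

variable [Fintype G] (S : Setup G)

include S in
theorem card_centralizer_involution {s : G} (hs : orderOf s = 2) :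
    Nat.card (Subgroup.centralizer ({s} : Set G)) = 48 := by
  rw [card_centralizer_eq_of_isConj (S.hone s hs), Nat.card_congr S.e.toEquiv, card_M]

include S in
/-- A three-subgroup centralizing an involution has order at most three. -/
theorem le_three (P : Subgroup G) {s : G} (hs : orderOf s = 2) (hP : Nat.card P ∣ 27)
    (hc : ∀ g ∈ P, g * s = s * g) : Nat.card P ≤ 3 := by
  have h := Subgroup.card_dvd_of_le (show P ≤ Subgroup.centralizer ({s} : Set G) from
    fun g hg => Subgroup.mem_centralizer_singleton_iff.2 (hc g hg))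
  rw [S.card_centralizer_involution hs] at h
  exact Nat.le_of_dvd (by norm_num) ((Nat.dvd_gcd hP h).trans (by norm_num))

include S in
theorem order_three_of_mem {P : Subgroup G} (hP : Nat.card P ∣ 27) {y s : G} (hy : y ∈ P)
    (h1 : y ≠ 1) (hs : orderOf s = 2) (hys : y * s = s * y) : orderOf y = 3 := by
  have hd : orderOf y ∣ 27 := (Subgroup.orderOf_dvd_natCard _ hy).trans hP
  have hle := S.le_three (Subgroup.zpowers y) hs (by rwa [Nat.card_zpowers]) (fun g hg => by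
    obtain ⟨k, rfl⟩ := Subgroup.mem_zpowers_iff.1 hg
    exact ((Commute.zpow_left (show Commute y s from hys) k)).eq)
  rw [Nat.card_zpowers] at hle
  have h0 : orderOf y ≠ 1 := fun h => h1 (orderOf_eq_one_iff.1 h)
  have := Nat.le_of_dvd (by norm_num) hd
  interval_cases orderOf y <;> omega

include S in
/-- Inside a three-subgroup an involution fixes at most a cyclic subgroup. -/
theorem mem_zpowers_of_commute {P : Subgroup G} (hP : Nat.card P ∣ 27) {v y s : G}
    (hv : orderOf v = 3) (hvP : v ∈ P) (hyP : y ∈ P) (hs : orderOf s = 2)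
    (hvs : v * s = s * v) (hys : y * s = s * y) : y ∈ Subgroup.zpowers v := by
  have hle := S.le_three (P ⊓ Subgroup.centralizer ({s} : Set G)) hs
    ((Subgroup.card_dvd_of_le inf_le_left).trans hP)
    (fun g hg => Subgroup.mem_centralizer_singleton_iff.1 hg.2)
  have hvmem : v ∈ P ⊓ Subgroup.centralizer ({s} : Set G) :=
    ⟨hvP, Subgroup.mem_centralizer_singleton_iff.2 hvs⟩
  have heq := Subgroup.eq_of_le_of_card_ge (Subgroup.zpowers_le.2 hvmem)
    (by rwa [Nat.card_zpowers, hv])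
  rw [heq]
  exact ⟨hyP, Subgroup.mem_centralizer_singleton_iff.2 hys⟩

theorem mem_zpowers_three {x y : G} (hx : orderOf x = 3) (h : y ∈ Subgroup.zpowers x) :
    y = 1 ∨ y = x ∨ y = x⁻¹ := by
  have hx3 : x ^ 3 = 1 := hx ▸ pow_orderOf_eq_one x
  obtain ⟨n, hn⟩ := (mem_powers_iff_mem_zpowers).2 h
  have hn' : x ^ n = y := hn
  rw [← hn', pow_mod_three hx3]
  rcases (show n % 3 = 0 ∨ n % 3 = 1 ∨ n % 3 = 2 by omega) with h | h | h <;> rw [h]
  · exact Or.inl (pow_zero x)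
  · exact Or.inr (Or.inl (pow_one x))
  · exact Or.inr (Or.inr (eq_inv_of_mul_eq_one_left (by rw [← pow_succ]; exact hx3)))

theorem exists_inverting : ∃ j : Idx, clsI j = 2 ∧ mulI (mulI j 6) j = invI 6 := by decide +kernel

/-- A reflection inverting `x₀`. -/
theorem exists_r : ∃ r : G, orderOf r = 2 ∧ r ≠ S.t ∧ r * S.t = S.t * r ∧
    orderOf (S.t * r) = 2 ∧ r * S.x₀ * r⁻¹ = S.x₀⁻¹ ∧
      (S.t * r) * S.x₀ * (S.t * r)⁻¹ = S.x₀⁻¹ := by
  obtain ⟨j, hj, hj6⟩ := exists_inverting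
  obtain ⟨h1, h2, h3, h4⟩ := exists_reflection S.e S.ht hj
  have hr : (S.e.symm (el j) : G) * S.x₀ * (S.e.symm (el j) : G)⁻¹ = S.x₀⁻¹ := by
    have h : S.e.symm (el j) * S.e.symm (el 6) * (S.e.symm (el j))⁻¹ = (S.e.symm (el 6))⁻¹ := by
      rw [← map_mul, ← map_inv, ← map_mul, ← map_inv, el_inv, el_inv, el_mul, el_mul]
      have : invI j = j := by
        have : ∀ i : Idx, clsI i = 2 → invI i = i := by decide +kernel
        exact this j hj
      rw [this, hj6]
    exact congrArg Subtype.val h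
  refine ⟨_, h1, h2, h3.symm, h4, hr, ?_⟩
  calc S.t * (S.e.symm (el j) : G) * S.x₀ * (S.t * (S.e.symm (el j) : G))⁻¹
      = S.t * ((S.e.symm (el j) : G) * S.x₀ * (S.e.symm (el j) : G)⁻¹) * S.t⁻¹ := by group
    _ = S.x₀⁻¹ := by
      rw [hr, mul_inv_eq_iff_eq_mul]
      exact ((show Commute S.x₀ S.t from S.x₀_comm).inv_left).eq.symm

theorem isConj_inv : IsConj S.x₀ S.x₀⁻¹ := by
  obtain ⟨r, -, -, -, -, hr, -⟩ := S.exists_r
  exact isConj_iff.2 ⟨r, hr⟩

theorem not_eighteen : Nat.card (Subgroup.centralizer ({S.x₀} : Set G)) ≠ 18 := by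
  haveI : Fact (Nat.Prime 3) := ⟨Nat.prime_three⟩
  intro h18
  obtain ⟨O, hOc, hOle, hOmax⟩ := exists_rad (v := S.x₀) (n := 2) (by rw [h18]; norm_num)
  have hOd : Nat.card O ∣ 27 := by rw [hOc]; norm_num
  have hOodd : Odd (Nat.card O) := by rw [hOc]; decide
  have hcomm : ∀ a ∈ O, ∀ b ∈ O, a * b = b * a := fun a ha b hb => by
    haveI := IsPGroup.isMulCommutative_of_card_eq_prime_sq (G := O) (p := 3) (by rw [hOc])
    exact congrArg Subtype.val (mul_comm' (⟨a, ha⟩ : O) ⟨b, hb⟩)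
  have hxO : S.x₀ ∈ O :=
    hOmax _ (Subgroup.mem_centralizer_singleton_iff.2 rfl) (by rw [S.x₀_order]; decide)
  have hx3 : S.x₀ ^ 3 = 1 := S.x₀_order ▸ pow_orderOf_eq_one _
  have hnorm : ∀ g : G, g * S.x₀ * g⁻¹ = S.x₀ ∨ g * S.x₀ * g⁻¹ = S.x₀⁻¹ → ∀ y ∈ O,
      g * y * g⁻¹ ∈ O := fun g hg y hy =>
    (Subgroup.mem_normalizer_iff.1 (conj_closed_of_rad hOle hOmax hOodd
      (normalizes_of_centralizes_or_inverts hg)) y).1 hy
  have htx : S.t * S.x₀ * S.t⁻¹ = S.x₀ := mul_inv_eq_iff_eq_mul.2 S.x₀_comm.symm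
  obtain ⟨v, hvO, hv⟩ : ∃ v ∈ O, v ∉ Subgroup.zpowers S.x₀ := by
    by_contra! hcon
    have := Subgroup.card_dvd_of_le (show O ≤ Subgroup.zpowers S.x₀ from hcon)
    rw [hOc, Nat.card_zpowers, S.x₀_order] at this
    norm_num at this
  obtain ⟨v', hv'⟩ : ∃ v', v' = S.t * v * S.t⁻¹ := ⟨_, rfl⟩
  have hv'O : v' ∈ O := hv' ▸ hnorm _ (Or.inl htx) v hvO
  obtain ⟨w, hw⟩ : ∃ w, w = v⁻¹ * v' := ⟨_, rfl⟩
  have hwO : w ∈ O := hw ▸ mul_mem (inv_mem hvO) hv'O
  have hti : S.t⁻¹ = S.t := inv_eq_of_mul_eq_one_right (mul_self_eq_one S.ht)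
  have htw : S.t * w * S.t⁻¹ = w⁻¹ := by
    have h1 : S.t * w * S.t⁻¹ = (S.t * v * S.t⁻¹)⁻¹ * (S.t * v' * S.t⁻¹) := by rw [hw]; group
    have h2 : S.t * v' * S.t⁻¹ = v := by
      rw [hv', hti, conj_mul_self S.ht]
    rw [h1, h2, ← hv', hw, mul_inv_rev, inv_inv]
  have hw1 : w ≠ 1 := fun h => hv (S.mem_zpowers_of_commute hOd S.x₀_order hxO hvO S.ht S.x₀_comm
    (by
      have h' : v' = v := by rw [hw, inv_mul_eq_one] at h; exact h.symm
      rw [hv'] at h'
      exact (mul_inv_eq_iff_eq_mul.1 h').symm))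
  have hwn : w ∉ Subgroup.zpowers S.x₀ := by
    intro h
    obtain ⟨k, hk⟩ := Subgroup.mem_zpowers_iff.1 h
    have : S.t * w * S.t⁻¹ = w := by
      rw [mul_inv_eq_iff_eq_mul, ← hk]
      exact ((show Commute S.x₀ S.t from S.x₀_comm).zpow_left k).eq.symm
    rw [htw] at this
    have h2 : orderOf w ∣ 2 := orderOf_dvd_of_pow_eq_one (by
      rw [pow_two]; exact mul_eq_one_iff_eq_inv.2 this.symm)
    have h9 : orderOf w ∣ 9 := (Subgroup.orderOf_dvd_natCard _ hwO).trans (by rw [hOc]; norm_num)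
    exact hw1 (orderOf_eq_one_iff.1 (Nat.dvd_one.1 ((Nat.dvd_gcd h2 h9).trans (by norm_num))))
  have hw3 : w ^ 3 = 1 := by
    have hd : orderOf w ∣ 3 ^ 2 := by rw [← hOc]; exact Subgroup.orderOf_dvd_natCard _ hwO
    obtain ⟨k, hk, hk'⟩ := (Nat.dvd_prime_pow Nat.prime_three).1 hd
    interval_cases k
    · exact absurd (orderOf_eq_one_iff.1 (by simpa using hk')) hw1
    · rw [show 3 = orderOf w by simpa using hk'.symm]; exact pow_orderOf_eq_one w
    · exfalso
      have heq := Subgroup.eq_of_le_of_card_ge (Subgroup.zpowers_le.2 hwO)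
        (by rw [Nat.card_zpowers, hk', hOc])
      obtain ⟨k, hk⟩ := Subgroup.mem_zpowers_iff.1 (heq ▸ hxO)
      have h1 : S.t * S.x₀ * S.t⁻¹ = S.x₀⁻¹ := by rw [← hk, ← conj_zpow, htw, inv_zpow]
      rw [htx] at h1
      have h2 : orderOf S.x₀ ∣ 2 := orderOf_dvd_of_pow_eq_one (by
        rw [pow_two]; exact mul_eq_one_iff_eq_inv.2 h1)
      rw [S.x₀_order] at h2
      norm_num at h2
  have hwo : orderOf w = 3 := orderOf_eq_prime hw3 hw1
  have hxw : Commute S.x₀ w := hcomm _ hxO _ hwO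
  -- `w` is conjugate to `x₀`
  obtain ⟨r, hr2, -, hrt, htr2, hrx, htrx⟩ := S.exists_r
  have hrw : r * w * r⁻¹ = w ∨ r * w * r⁻¹ = w⁻¹ := by
    have hm := hnorm r (Or.inr hrx) w hwO
    have heq : pairSub hxw hx3 hw3 = O := Subgroup.eq_of_le_of_card_ge
      (fun g hg => by
        obtain ⟨i, j, rfl⟩ := hg
        exact mul_mem (pow_mem hxO i) (pow_mem hwO j))
      (by rw [card_pairSub hxw S.x₀_order hw3 hwn, hOc]; norm_num)
    obtain ⟨i, j, hij⟩ := (heq ▸ hm : r * w * r⁻¹ ∈ pairSub hxw hx3 hw3)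
    have h1 : S.t * (r * w * r⁻¹) * S.t⁻¹ = (r * w * r⁻¹)⁻¹ := by
      calc S.t * (r * w * r⁻¹) * S.t⁻¹ = (S.t * r) * w * (S.t * r)⁻¹ := by group
        _ = r * (S.t * w * S.t⁻¹) * r⁻¹ := by rw [← hrt]; group
        _ = _ := by rw [htw]; group
    have h1' : S.t * (S.x₀ ^ i * w ^ j) * S.t⁻¹ = S.x₀ ^ i * (w⁻¹) ^ j := by
      calc S.t * (S.x₀ ^ i * w ^ j) * S.t⁻¹
          = (S.t * S.x₀ ^ i * S.t⁻¹) * (S.t * w ^ j * S.t⁻¹) := by group
        _ = _ := by rw [← conj_pow, ← conj_pow, htx, htw]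
    rw [hij, h1', (hxw.pow_pow i j).eq, mul_inv_rev] at h1
    have h2 : S.x₀ ^ i = (S.x₀ ^ i)⁻¹ := by
      simp only [inv_pow] at h1
      exact mul_right_cancel h1
    have hi : i % 3 = 0 := by
      have := orderOf_dvd_of_pow_eq_one (x := S.x₀) (n := i + i) (by
        rw [pow_add]; exact mul_eq_one_iff_eq_inv.2 h2)
      rw [S.x₀_order] at this
      omega
    rw [pow_mod_three hx3 i, hi, pow_zero, one_mul] at hij
    rcases mem_zpowers_three hwo (hij ▸ Subgroup.pow_mem _ (Subgroup.mem_zpowers w) j :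
      r * w * r⁻¹ ∈ Subgroup.zpowers w) with h | h | h
    · exact absurd (conj_eq_one_iff.1 h) hw1
    · exact Or.inl h
    · exact Or.inr h
  have hconjw : IsConj S.x₀ w := by
    rcases hrw with h | h
    · exact S.isConj_of_commute hr2 hwo (mul_inv_eq_iff_eq_mul.1 h).symm
    · refine S.isConj_of_commute htr2 hwo ?_
      have : S.t * r * w * (S.t * r)⁻¹ = w := by
        calc S.t * r * w * (S.t * r)⁻¹ = S.t * (r * w * r⁻¹) * S.t⁻¹ := by group
          _ = w := by rw [h, ← conj_inv, htw, inv_inv]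
      exact (mul_inv_eq_iff_eq_mul.1 this).symm
  -- the conjugates of `x₀` in `O`
  have heq : pairSub hxw hx3 hw3 = O := Subgroup.eq_of_le_of_card_ge
    (fun g hg => by
      obtain ⟨i, j, rfl⟩ := hg
      exact mul_mem (pow_mem hxO i) (pow_mem hwO j))
    (by rw [card_pairSub hxw S.x₀_order hw3 hwn, hOc]; norm_num)
  classical
  let P : Fin 3 × Fin 3 → Prop := fun p => IsConj S.x₀ (S.x₀ ^ (p.1 : ℕ) * w ^ (p.2 : ℕ))
  have hxx : S.x₀ ^ 2 = S.x₀⁻¹ :=
    eq_inv_of_mul_eq_one_left (by rw [← pow_succ]; exact hx3)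
  have hww : w ^ 2 = w⁻¹ := eq_inv_of_mul_eq_one_left (by rw [← pow_succ]; exact hw3)
  have h00 : ¬ P (0, 0) := fun h => by
    have h' : IsConj S.x₀ 1 := by simpa [P] using h
    exact (by have := isConj_one_left.1 h'; rw [← orderOf_eq_one_iff, S.x₀_order] at this; omega)
  have h10 : P (1, 0) := by
    show IsConj _ (S.x₀ ^ 1 * w ^ 0)
    rw [pow_zero, mul_one, pow_one]
  have h20 : P (2, 0) := by
    show IsConj _ (S.x₀ ^ 2 * w ^ 0)
    rw [pow_zero, mul_one, hxx]; exact S.isConj_inv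
  have h01 : P (0, 1) := by simpa [P] using hconjw
  have h02 : P (0, 2) := by
    show IsConj _ (S.x₀ ^ 0 * w ^ 2)
    rw [pow_zero, one_mul, hww]
    exact hconjw.trans (isConj_iff.2 ⟨S.t, htw⟩)
  have hBt : ∀ a b : G, S.t * a * S.t⁻¹ = a → S.t * b * S.t⁻¹ = b⁻¹ →
      (IsConj S.x₀ (a * b) ↔ IsConj S.x₀ (a * b⁻¹)) := fun a b ha hb => by
    have : IsConj (a * b) (a * b⁻¹) := isConj_iff.2 ⟨S.t, by rw [← conj_mul, ha, hb]⟩
    exact ⟨fun h => h.trans this, fun h => h.trans this.symm⟩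
  have hBr : IsConj (S.x₀ * w) (S.x₀⁻¹ * w) := by
    rcases hrw with h | h
    · exact isConj_iff.2 ⟨r, by rw [← conj_mul, hrx, h]⟩
    · refine isConj_iff.2 ⟨S.t * r, ?_⟩
      have : S.t * r * w * (S.t * r)⁻¹ = w := by
        calc S.t * r * w * (S.t * r)⁻¹ = S.t * (r * w * r⁻¹) * S.t⁻¹ := by group
          _ = w := by rw [h, ← conj_inv, htw, inv_inv]
      rw [← conj_mul, htrx, this]
  have htxi : S.t * S.x₀⁻¹ * S.t⁻¹ = S.x₀⁻¹ := by rw [← conj_inv, htx]
  have hA : P (1, 1) ↔ P (1, 2) := by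
    show IsConj _ (S.x₀ ^ 1 * w ^ 1) ↔ IsConj _ (S.x₀ ^ 1 * w ^ 2)
    rw [pow_one, pow_one, hww]; exact hBt _ _ htx htw
  have hB : P (1, 1) ↔ P (2, 1) := by
    show IsConj _ (S.x₀ ^ 1 * w ^ 1) ↔ IsConj _ (S.x₀ ^ 2 * w ^ 1)
    rw [pow_one, pow_one, hxx]; exact ⟨fun h => h.trans hBr, fun h => h.trans hBr.symm⟩
  have hC : P (2, 1) ↔ P (2, 2) := by
    show IsConj _ (S.x₀ ^ 2 * w ^ 1) ↔ IsConj _ (S.x₀ ^ 2 * w ^ 2)
    rw [pow_one, hxx, hww]; exact hBt _ _ htxi htw
  have hcard : ¬ 3 ∣ Fintype.card {p // P p} := by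
    rw [Fintype.card_subtype]
    by_cases h11 : P (1, 1)
    · have : Finset.univ.filter P = Finset.univ.filter (fun p => p ≠ (0, 0)) := by
        refine Finset.filter_congr fun p _ => ?_
        obtain ⟨a, b⟩ := p
        fin_cases a <;> fin_cases b <;> simp_all
      rw [this]; decide
    · have : Finset.univ.filter P = Finset.univ.filter (fun p => (p.1 = 0) ≠ (p.2 = 0)) := by
        refine Finset.filter_congr fun p _ => ?_
        obtain ⟨a, b⟩ := p
        fin_cases a <;> fin_cases b <;> simp_all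
      rw [this]; decide
  -- an element normalizing `O` fixes one of them
  obtain ⟨T, hT⟩ := (IsPGroup.of_card (n := 2) hOc : IsPGroup 3 O).exists_le_sylow
  have h27 : 27 ∣ Nat.card (T : Subgroup G) :=
    T.pow_dvd_card_of_pow_dvd_card (n := 3) (by rw [S.hcard]; norm_num)
  haveI : Group.IsNilpotent (T : Subgroup G) := T.isPGroup'.isNilpotent
  have hne : O.subgroupOf (T : Subgroup G) < ⊤ := by
    refine lt_top_iff_ne_top.2 fun h => ?_
    have := h27.trans (Subgroup.card_dvd_of_le (Subgroup.subgroupOf_eq_top.1 h))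
    rw [hOc] at this
    norm_num at this
  obtain ⟨⟨g, hgT⟩, hgN, hgO⟩ :=
    SetLike.exists_of_lt (Group.normalizerCondition_of_isNilpotent _ hne)
  rw [Subgroup.mem_normalizer_iff] at hgN
  rw [Subgroup.mem_subgroupOf] at hgO
  have hgO' : ∀ y, y ∈ O ↔ g * y * g⁻¹ ∈ O := by
    intro y
    constructor
    · intro hy; exact (hgN ⟨y, hT hy⟩).1 hy
    · intro hy
      have hyT : y ∈ (T : Subgroup G) := by
        rw [show y = g⁻¹ * (g * y * g⁻¹) * g by group]
        exact mul_mem (mul_mem (inv_mem hgT) (hT hy)) hgT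
      exact (hgN ⟨y, hyT⟩).2 hy
  obtain ⟨k, hk⟩ := T.isPGroup' ⟨g, hgT⟩
  have hk' : g ^ 3 ^ k = 1 := congrArg Subtype.val hk
  let σ : Equiv.Perm {y : G // y ∈ O ∧ IsConj S.x₀ y} :=
    (MulAut.conj g).toEquiv.subtypeEquiv fun y => by
      show y ∈ O ∧ IsConj S.x₀ y ↔ g * y * g⁻¹ ∈ O ∧ IsConj S.x₀ (g * y * g⁻¹)
      rw [← hgO' y]
      have : IsConj y (g * y * g⁻¹) := isConj_iff.2 ⟨g, rfl⟩
      exact and_congr_right fun _ => ⟨fun h => h.trans this, fun h => h.trans this.symm⟩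
  have hσ : ∀ (n : ℕ) y, ((σ ^ n) y : G) = g ^ n * (y : G) * (g ^ n)⁻¹ := by
    intro n
    induction n with
    | zero => intro y; simp
    | succ n ih =>
      intro y
      rw [pow_succ', Equiv.Perm.mul_apply]
      show g * ((σ ^ n) y : G) * g⁻¹ = _
      rw [ih, pow_succ' g]; group
  have hσk : σ ^ 3 ^ k = 1 := by
    ext y
    rw [hσ, hk']
    simp
  let e' : {z : pairSub hxw hx3 hw3 // IsConj S.x₀ (z : G)} ≃
      {y : G // y ∈ O ∧ IsConj S.x₀ y} :=
    { toFun := fun z => ⟨(z.1 : G), heq ▸ z.1.2, z.2⟩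
      invFun := fun z => ⟨⟨z.1, heq.symm ▸ z.2.1⟩, z.2.2⟩
      left_inv := fun z => rfl
      right_inv := fun z => rfl }
  let f : {p // P p} ≃ {y : G // y ∈ O ∧ IsConj S.x₀ y} :=
    ((pairEquiv hxw S.x₀_order hw3 hwn).subtypeEquiv
      (q := fun z : pairSub hxw hx3 hw3 => IsConj S.x₀ (z : G))
      (fun p => Iff.rfl)).trans
      e'
  obtain ⟨⟨a, haO, haC⟩, ha⟩ := Equiv.Perm.exists_fixed_point_of_prime (p := 3) (n := k)
    (by rwa [← Fintype.card_congr f]) hσk
  have ha' : g * a * g⁻¹ = a := congrArg Subtype.val ha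
  obtain ⟨O', hO'c, -, hO'max⟩ := exists_rad (v := a) (n := 2)
    (by rw [card_centralizer_eq_of_isConj haC, h18]; norm_num)
  have heq' : O = O' := Subgroup.eq_of_le_of_card_ge (fun y hy => hO'max y
    (Subgroup.mem_centralizer_singleton_iff.2 (hcomm _ hy _ haO))
    (hOodd.of_dvd_nat (Subgroup.orderOf_dvd_natCard _ hy))) (by rw [hOc, hO'c])
  exact hgO (heq' ▸ hO'max g
    (Subgroup.mem_centralizer_singleton_iff.2 (mul_inv_eq_iff_eq_mul.1 ha'))
    ((Odd.pow (by decide : Odd 3)).of_dvd_nat (orderOf_dvd_of_pow_eq_one hk')))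

theorem card_centralizer_x₀ : Nat.card (Subgroup.centralizer ({S.x₀} : Set G)) = 54 :=
  S.card_centralizer_x₀_cases.resolve_left S.not_eighteen

end Setup

end CfsgLib.Involutions.GLTwoThree
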