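/-
The two subgroups of order nine and their normalizers of order 432.
-/
import Cfsg.Agent.Lib.Involutions.GLTwoThree.CentThree

set_option autoImplicit false

open Cfsg

namespace CfsgLib.Involutions.GLTwoThree

universe u

variable {G : Type u} [Group G]

theorem mem_normalizer_of_conj_mem [Finite G] {H : Subgroup G} {g : G}
    (h : ∀ y ∈ H, g * y * g⁻¹ ∈ H) : g ∈ Subgroup.normalizer (H : Set G) := by
  have hle : H.map (MulAut.conj g).toMonoidHom ≤ H := by
    rintro _ ⟨y, hy, rfl⟩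
    exact h y hy
  have heq := Subgroup.eq_of_le_of_card_ge hle (le_of_eq (Subgroup.card_map_of_injective
    (MulAut.conj g).injective).symm)
  rw [Subgroup.mem_normalizer_iff]
  refine fun y => ⟨h y, fun hy => ?_⟩
  rw [← heq] at hy
  obtain ⟨z, hz, hzy⟩ := hy
  exact (MulAut.conj g).injective hzy ▸ hz

/-- A subgroup of order nine is normal in one of order 27. -/
theorem le_normalizer_of_nine [Finite G] {E R : Subgroup G} (hle : E ≤ R)
    (hE : Nat.card E = 9) (hR : Nat.card R = 27) :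
    R ≤ Subgroup.normalizer (E : Set G) := by
  haveI : Fact (Nat.Prime 3) := ⟨Nat.prime_three⟩
  haveI : Group.IsNilpotent R :=
    (IsPGroup.of_card (n := 3) (by rw [hR]; norm_num) : IsPGroup 3 R).isNilpotent
  have hne : E.subgroupOf R < ⊤ := by
    refine lt_top_iff_ne_top.2 fun h => ?_
    have := Subgroup.card_dvd_of_le (Subgroup.subgroupOf_eq_top.1 h)
    rw [hE, hR] at this
    norm_num at this
  have hlt := Group.normalizerCondition_of_isNilpotent _ hne
  set N := Subgroup.normalizer ((E.subgroupOf R : Subgroup R) : Set R)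
  have hN : N = ⊤ := by
    have h1 := Subgroup.card_dvd_of_le hlt.le
    have h2 := N.card_subgroup_dvd_card
    have hc : Nat.card (E.subgroupOf R) = 9 := by
      rw [Nat.card_congr (Subgroup.subgroupOfEquivOfLe hle).toEquiv, hE]
    have h3 : Nat.card N ≠ 9 := fun h => hlt.ne
      (Subgroup.eq_of_le_of_card_ge hlt.le (by rw [h, hc]))
    refine Subgroup.eq_top_of_card_eq N ?_
    rw [hc] at h1
    rw [hR] at h2 ⊢
    obtain ⟨k, hk⟩ := h1
    have hle27 := Nat.le_of_dvd (by norm_num) h2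
    have : k ≤ 3 := by omega
    interval_cases k <;> first | omega | (rw [hk] at h2; norm_num at h2)
  intro g hg
  refine mem_normalizer_of_conj_mem fun y hy => ?_
  have := (Subgroup.mem_normalizer_iff.1 (show (⟨g, hg⟩ : R) ∈ N from hN ▸ Subgroup.mem_top _)
    ⟨y, hle hy⟩).1 hy
  exact this

/-- An element of odd order commutes with what its square commutes with. -/
theorem commute_of_sq [Finite G] {g y : G} (hg : Odd (orderOf g)) (h : Commute (g ^ 2) y) :
    Commute g y := by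
  obtain ⟨m, hm⟩ := exists_pow_eq_self_of_coprime (x := g) (n := 2) (Nat.coprime_two_left.2 hg)
  exact hm ▸ h.pow_left m

namespace Setup

variable [Fintype G] (S : Setup G)

/-- The maximal subgroup of odd order centralizing `x₀`. -/
noncomputable def R : Subgroup G :=
  (exists_rad (v := S.x₀) (n := 3) (by rw [S.card_centralizer_x₀]; norm_num)).choose

theorem card_R : Nat.card S.R = 27 := by
  have := (exists_rad (v := S.x₀) (n := 3)
    (by rw [S.card_centralizer_x₀]; norm_num)).choose_spec.1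
  simpa [R] using this

theorem R_le : S.R ≤ Subgroup.centralizer ({S.x₀} : Set G) :=
  (exists_rad (v := S.x₀) (n := 3) (by rw [S.card_centralizer_x₀]; norm_num)).choose_spec.2.1

theorem mem_R : ∀ g ∈ Subgroup.centralizer ({S.x₀} : Set G), Odd (orderOf g) → g ∈ S.R :=
  (exists_rad (v := S.x₀) (n := 3) (by rw [S.card_centralizer_x₀]; norm_num)).choose_spec.2.2

theorem odd_of_mem_R {g : G} (hg : g ∈ S.R) : Odd (orderOf g) :=
  (by rw [S.card_R]; decide : Odd (Nat.card S.R)).of_dvd_nat (Subgroup.orderOf_dvd_natCard _ hg)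

theorem x₀_mem_R : S.x₀ ∈ S.R :=
  S.mem_R _ (Subgroup.mem_centralizer_singleton_iff.2 rfl) (by rw [S.x₀_order]; decide)

theorem x₀_comm_R {g : G} (hg : g ∈ S.R) : g * S.x₀ = S.x₀ * g :=
  Subgroup.mem_centralizer_singleton_iff.1 (S.R_le hg)

theorem mem_normalizer_R {g : G} (h : g * S.x₀ * g⁻¹ = S.x₀ ∨ g * S.x₀ * g⁻¹ = S.x₀⁻¹) :
    g ∈ Subgroup.normalizer (S.R : Set G) :=
  conj_closed_of_rad S.R_le S.mem_R (by rw [S.card_R]; decide)
    (normalizes_of_centralizes_or_inverts h)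

theorem t_mem_normalizer_R : S.t ∈ Subgroup.normalizer (S.R : Set G) :=
  S.mem_normalizer_R (Or.inl (mul_inv_eq_iff_eq_mul.2 S.x₀_comm.symm))

/-- Of two commuting involutions acting on `R`, each fixes an element of order three. -/
theorem klein {s s' : G} (hs : orderOf s = 2) (hs' : orderOf s' = 2) (hne : s ≠ s')
    (hc : s * s' = s' * s) (hsN : s ∈ Subgroup.normalizer (S.R : Set G))
    (hs'N : s' ∈ Subgroup.normalizer (S.R : Set G)) :
    ∃ v ∈ S.R, orderOf v = 3 ∧ v * s' = s' * v := by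
  have h27 : Nat.card S.R ∣ 27 := by rw [S.card_R]
  by_contra! hcon
  have hfix : ∀ y ∈ S.R, y * s' = s' * y → y = 1 := fun y hy h => by
    by_contra h1
    exact hcon y hy (S.order_three_of_mem h27 hy h1 hs' h) h
  have hnorm : ∀ a ∈ Subgroup.normalizer (S.R : Set G), ∀ y ∈ S.R, a * y * a⁻¹ ∈ S.R :=
    fun a ha y hy => (Subgroup.mem_normalizer_iff.1 ha y).1 hy
  let f : S.R → S.R := fun y => ⟨(y : G)⁻¹ * (s' * y * s'⁻¹),
    mul_mem (inv_mem y.2) (hnorm s' hs'N y y.2)⟩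
  have hf : Function.Injective f := by
    intro y z hyz
    have h' : (y : G)⁻¹ * (s' * y * s'⁻¹) = (z : G)⁻¹ * (s' * z * s'⁻¹) := congrArg Subtype.val hyz
    have h1 : (z : G) * (y : G)⁻¹ * s' = s' * ((z : G) * (y : G)⁻¹) := by
      calc (z : G) * (y : G)⁻¹ * s'
          = z * ((y : G)⁻¹ * (s' * y * s'⁻¹)) * s' * (y : G)⁻¹ := by group
        _ = _ := by rw [h']; group
    exact Subtype.ext (mul_inv_eq_one.1 (hfix _ (mul_mem z.2 (inv_mem y.2)) h1)).symm
  have hinv : ∀ y ∈ S.R, s' * y * s'⁻¹ = y⁻¹ := by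
    intro y hy
    obtain ⟨z, hz⟩ := (Finite.injective_iff_surjective.1 hf) ⟨y, hy⟩
    have hz' : (z : G)⁻¹ * (s' * z * s'⁻¹) = y := congrArg Subtype.val hz
    have h2 : s' * (s' * (z : G) * s'⁻¹) * s'⁻¹ = z := by
      rw [conj_of_inv hs', conj_of_inv hs', conj_mul_self hs']
    calc s' * y * s'⁻¹
        = (s' * z * s'⁻¹)⁻¹ * (s' * (s' * (z : G) * s'⁻¹) * s'⁻¹) := by rw [← hz']; group
      _ = y⁻¹ := by rw [h2, ← hz']; group
  have hab : ∀ a b : S.R, a * b = b * a := fun a b => by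
    apply Subtype.ext
    have h1 := hinv _ (mul_mem a.2 b.2)
    have h2 : s' * ((a : G) * b) * s'⁻¹ = (s' * a * s'⁻¹) * (s' * b * s'⁻¹) := by group
    rw [h2, hinv _ a.2, hinv _ b.2, ← mul_inv_rev, inv_inj] at h1
    exact h1.symm
  let φ : S.R →* S.R :=
    { toFun := fun y => ⟨(y : G)⁻¹ * (s * y * s⁻¹), mul_mem (inv_mem y.2) (hnorm s hsN y y.2)⟩
      map_one' := Subtype.ext (by simp)
      map_mul' := fun a b => Subtype.ext (by
        show ((a : G) * b)⁻¹ * (s * (a * b) * s⁻¹) =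
          (a : G)⁻¹ * (s * a * s⁻¹) * ((b : G)⁻¹ * (s * b * s⁻¹))
        have h1 : ((⟨s * a * s⁻¹, hnorm s hsN a a.2⟩ : S.R) * b⁻¹ : S.R) =
            b⁻¹ * ⟨s * a * s⁻¹, hnorm s hsN a a.2⟩ := hab _ _
        have h2 : (s * (a : G) * s⁻¹) * (b : G)⁻¹ = (b : G)⁻¹ * (s * a * s⁻¹) :=
          congrArg Subtype.val h1
        have h3 : (a : G)⁻¹ * (b : G)⁻¹ = (b : G)⁻¹ * (a : G)⁻¹ :=
          congrArg Subtype.val (hab a⁻¹ b⁻¹)
        calc ((a : G) * b)⁻¹ * (s * (a * b) * s⁻¹)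
            = ((b : G)⁻¹ * (a : G)⁻¹) * (s * a * s⁻¹) * (s * b * s⁻¹) := by group
          _ = (a : G)⁻¹ * ((b : G)⁻¹ * (s * a * s⁻¹)) * (s * b * s⁻¹) := by rw [← h3]; group
          _ = _ := by rw [← h2]; group) }
  have hk : Nat.card φ.ker ≤ 3 := by
    rw [← Subgroup.card_map_of_injective S.R.subtype_injective]
    refine S.le_three _ hs ((Subgroup.card_dvd_of_le (Subgroup.map_subtype_le _)).trans h27) ?_
    rintro _ ⟨y, hy, rfl⟩
    have h : (y : G)⁻¹ * (s * y * s⁻¹) = 1 := congrArg Subtype.val (MonoidHom.mem_ker.1 hy)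
    rw [inv_mul_eq_one] at h
    exact (mul_inv_eq_iff_eq_mul.1 h.symm).symm
  have hi : Nat.card φ.range ≤ 3 := by
    rw [← Subgroup.card_map_of_injective S.R.subtype_injective]
    have hss : orderOf (s * s') = 2 := by
      refine orderOf_eq_prime ?_ (fun h => hne (by
        rw [mul_eq_one_iff_eq_inv, inv_eq_of_mul_eq_one_right (mul_self_eq_one hs')] at h
        exact h))
      rw [pow_two]
      calc s * s' * (s * s') = s * (s' * s) * s' := by group
        _ = (s * s) * (s' * s') := by rw [← hc]; group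
        _ = 1 := by rw [mul_self_eq_one hs, mul_self_eq_one hs', mul_one]
    refine S.le_three _ hss ((Subgroup.card_dvd_of_le (Subgroup.map_subtype_le _)).trans h27) ?_
    rintro _ ⟨_, ⟨y, rfl⟩, rfl⟩
    show (y : G)⁻¹ * (s * y * s⁻¹) * (s * s') = s * s' * ((y : G)⁻¹ * (s * y * s⁻¹))
    have hm : (y : G)⁻¹ * (s * y * s⁻¹) ∈ S.R := mul_mem (inv_mem y.2) (hnorm s hsN y y.2)
    have h1 : s * (s' * ((y : G)⁻¹ * (s * y * s⁻¹)) * s'⁻¹) * s⁻¹ =
        (y : G)⁻¹ * (s * y * s⁻¹) := by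
      rw [hinv _ hm]
      have h2 : s * (s * (y : G) * s⁻¹) * s⁻¹ = y := by
        rw [conj_of_inv hs, conj_of_inv hs, conj_mul_self hs]
      calc s * ((y : G)⁻¹ * (s * y * s⁻¹))⁻¹ * s⁻¹
          = (s * (s * (y : G) * s⁻¹) * s⁻¹)⁻¹ * (s * y * s⁻¹) := by
            simp only [mul_inv_rev, inv_inv, mul_assoc, inv_mul_cancel_left, mul_inv_cancel_left,
              inv_mul_cancel, mul_inv_cancel, mul_one, one_mul]
        _ = _ := by rw [h2]
    calc (y : G)⁻¹ * (s * y * s⁻¹) * (s * s')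
        = s * (s' * ((y : G)⁻¹ * (s * y * s⁻¹)) * s'⁻¹) * s⁻¹ * (s * s') := by rw [h1]
      _ = _ := by group
  have := φ.ker.card_mul_index
  rw [Subgroup.index_ker, S.card_R] at this
  nlinarith

include S in
theorem card_le_four_index {H : Subgroup G} (hH : H ≠ ⊤) : ¬ H.index ≤ 4 := by
  intro h
  haveI := S.simple
  have hker : (MulAction.toPermHom G (G ⧸ H)).ker = ⊥ := by
    refine ((MulAction.toPermHom G (G ⧸ H)).normal_ker.eq_bot_or_eq_top).resolve_right fun hk => ?_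
    refine hH (eq_top_iff.2 fun g _ => ?_)
    have : g • ((1 : G) : G ⧸ H) = ((1 : G) : G ⧸ H) :=
      congrArg (fun p : Equiv.Perm (G ⧸ H) => p ((1 : G) : G ⧸ H))
        (MonoidHom.mem_ker.1 (hk ▸ Subgroup.mem_top g))
    rw [MulAction.Quotient.smul_coe, QuotientGroup.eq] at this
    simpa using this
  have hle := Nat.card_le_card_of_injective _ ((MonoidHom.ker_eq_bot_iff _).1 hker)
  rw [S.hcard, Nat.card_perm, ← Subgroup.index] at hle
  have := Nat.factorial_le h
  have : Nat.factorial 4 = 24 := by decide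
  omega

theorem not_sixteen_dvd : ¬ 16 ∣ Nat.card (Subgroup.normalizer (S.R : Set G)) := by
  haveI : Fact (Nat.Prime 2) := ⟨Nat.prime_two⟩
  intro h16
  set N := Subgroup.normalizer (S.R : Set G)
  have hz : IsPGroup 2 (Subgroup.zpowers (⟨S.t, S.t_mem_normalizer_R⟩ : N)) :=
    IsPGroup.of_card (n := 1) (by rw [Nat.card_zpowers, Subgroup.orderOf_mk, S.ht, pow_one])
  obtain ⟨T, hT⟩ := hz.exists_le_sylow
  have h16T : 16 ∣ Nat.card (T : Subgroup N) := T.pow_dvd_card_of_pow_dvd_card (n := 4) h16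
  haveI : Nontrivial (T : Subgroup N) := Finite.one_lt_card_iff_nontrivial.1
    (lt_of_lt_of_le (by norm_num) (Nat.le_of_dvd Nat.card_pos h16T))
  obtain ⟨n, hn⟩ := (T.isPGroup'.to_subgroup (Subgroup.center (T : Subgroup N))).exists_card_eq
  have hn0 : n ≠ 0 := by
    intro h
    rw [h, pow_zero] at hn
    have := Finite.one_lt_card_iff_nontrivial.2 T.isPGroup'.center_nontrivial
    omega
  obtain ⟨z, hz2⟩ := exists_prime_orderOf_dvd_card' (G := Subgroup.center (T : Subgroup N)) 2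
    (by rw [hn]; exact dvd_pow_self 2 hn0)
  set z' := (((z : (T : Subgroup N)) : N) : G) with hz'
  have hz'2 : orderOf z' = 2 := by
    rw [hz', Subgroup.orderOf_coe, Subgroup.orderOf_coe, Subgroup.orderOf_coe, hz2]
  have hz'N : z' ∈ N := ((z : (T : Subgroup N)) : N).2
  have hcomm : ∀ g : (T : Subgroup N), ((g : N) : G) * z' = z' * ((g : N) : G) := fun g =>
    congrArg (fun y : (T : Subgroup N) => ((y : N) : G)) ((Subgroup.mem_center_iff.1 z.2) g)
  obtain ⟨v, hvR, hv3, hvz⟩ : ∃ v ∈ S.R, orderOf v = 3 ∧ v * z' = z' * v := by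
    rcases eq_or_ne S.t z' with h | h
    · exact ⟨S.x₀, S.x₀_mem_R, S.x₀_order, h ▸ S.x₀_comm⟩
    · exact S.klein S.ht hz'2 h (hcomm ⟨_, hT (Subgroup.mem_zpowers _)⟩)
        S.t_mem_normalizer_R hz'N
  set Q := (T : Subgroup N).map N.subtype with hQ
  have hQc : Nat.card Q = Nat.card (T : Subgroup N) := by
    rw [hQ, Subgroup.card_map_of_injective N.subtype_injective]
  have horb := card_conjOrbit_mul Q v
  have hle2 : Nat.card {y : G // ∃ h ∈ Q, h * v * h⁻¹ = y} ≤ 2 := by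
    have hsub : ∀ y : {y : G // ∃ h ∈ Q, h * v * h⁻¹ = y}, (y : G) = v ∨ (y : G) = v⁻¹ := by
      rintro ⟨_, _, ⟨g, hg, rfl⟩, rfl⟩
      have hm : (g : G) * v * (g : G)⁻¹ ∈ S.R := (Subgroup.mem_normalizer_iff.1 g.2 v).1 hvR
      have hc : (g : G) * v * (g : G)⁻¹ * z' = z' * ((g : G) * v * (g : G)⁻¹) := by
        have hgz : Commute (g : G) z' := hcomm ⟨g, hg⟩
        exact ((hgz.mul_left hvz).mul_left hgz.inv_left).eq
      rcases mem_zpowers_three hv3 (S.mem_zpowers_of_commute (by rw [S.card_R]) hv3 hvR hm hz'2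
        hvz hc) with h | h | h
      · exact absurd (conj_eq_one_iff.1 h) (fun h => by rw [h, orderOf_one] at hv3; omega)
      · exact Or.inl h
      · exact Or.inr h
    classical
    have hinj : Function.Injective
        (fun y : {y : G // ∃ h ∈ Q, h * v * h⁻¹ = y} => decide ((y : G) = v)) := by
      intro a b hab
      simp only [decide_eq_decide] at hab
      apply Subtype.ext
      rcases hsub a with ha | ha
      · rw [ha, hab.1 ha]
      · rcases hsub b with hb | hb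
        · rw [hb, hab.2 hb]
        · rw [ha, hb]
    exact le_trans (Nat.card_le_card_of_injective _ hinj) (by simp)
  have hst : Nat.card (Q ⊓ Subgroup.centralizer ({v} : Set G) : Subgroup G) ≤ 2 := by
    obtain ⟨k, hk⟩ := T.isPGroup'.exists_card_eq
    have h1 := Subgroup.card_dvd_of_le (inf_le_left (a := Q)
      (b := Subgroup.centralizer ({v} : Set G)))
    have h2 := Subgroup.card_dvd_of_le (inf_le_right (a := Q)
      (b := Subgroup.centralizer ({v} : Set G)))
    rw [hQc, hk] at h1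
    rw [card_centralizer_eq_of_isConj (S.isConj_of_commute hz'2 hv3 hvz),
      S.card_centralizer_x₀, show 54 = 27 * 2 by norm_num] at h2
    exact Nat.le_of_dvd two_pos
      ((((by norm_num : Nat.Coprime 2 27).pow_left k).coprime_dvd_left h1).dvd_of_dvd_mul_left h2)
  have := Nat.le_of_dvd Nat.card_pos h16T
  rw [← hQc, ← horb] at this
  nlinarith

/-- An involution commuting with `t` that inverts `x₀`, with a fixed element of `R`. -/
structure Side where
  /-- The involution. -/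
  s : G
  /-- The element it fixes. -/
  u : G
  hs : orderOf s = 2
  hst : s * S.t = S.t * s
  hsx : s * S.x₀ * s⁻¹ = S.x₀⁻¹
  huR : u ∈ S.R
  hu : orderOf u = 3
  hus : u * s = s * u
  htu : S.t * u * S.t⁻¹ = u⁻¹
  hun : u ∉ Subgroup.zpowers S.x₀

theorem exists_side {s : G} (hs : orderOf s = 2) (hne : s ≠ S.t) (hst : s * S.t = S.t * s)
    (hsx : s * S.x₀ * s⁻¹ = S.x₀⁻¹) : ∃ A : Side S, A.s = s := by
  obtain ⟨u, huR, hu, hus⟩ := S.klein S.ht hs hne.symm hst.symm S.t_mem_normalizer_R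
    (S.mem_normalizer_R (Or.inr hsx))
  have hun : u ∉ Subgroup.zpowers S.x₀ := by
    intro h
    obtain ⟨k, hk⟩ := Subgroup.mem_zpowers_iff.1 h
    have h1 : s * u * s⁻¹ = u⁻¹ := by rw [← hk, ← conj_zpow, hsx, inv_zpow]
    rw [mul_inv_eq_iff_eq_mul.2 hus.symm] at h1
    have h2 : orderOf u ∣ 2 := orderOf_dvd_of_pow_eq_one (by
      rw [pow_two]; exact mul_eq_one_iff_eq_inv.2 h1)
    rw [hu] at h2
    norm_num at h2
  refine ⟨⟨s, u, hs, hst, hsx, huR, hu, hus, ?_, hun⟩, rfl⟩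
  have hm : S.t * u * S.t⁻¹ ∈ S.R :=
    (Subgroup.mem_normalizer_iff.1 S.t_mem_normalizer_R u).1 huR
  have hc : S.t * u * S.t⁻¹ * s = s * (S.t * u * S.t⁻¹) := by
    have h : Commute S.t s := hst.symm
    exact ((h.mul_left hus).mul_left h.inv_left).eq
  rcases mem_zpowers_three hu (S.mem_zpowers_of_commute (by rw [S.card_R]) hu huR hm hs hus hc)
    with h | h | h
  · exact absurd (conj_eq_one_iff.1 h) (fun h => by rw [h, orderOf_one] at hu; omega)
  · refine absurd ?_ hun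
    exact S.mem_zpowers_of_commute (by rw [S.card_R]) S.x₀_order S.x₀_mem_R huR S.ht S.x₀_comm
      (mul_inv_eq_iff_eq_mul.1 h).symm
  · exact h

namespace Side

variable {S} (A : Side S)

theorem x_cube : S.x₀ ^ 3 = 1 := S.x₀_order ▸ pow_orderOf_eq_one _

theorem u_cube : A.u ^ 3 = 1 := A.hu ▸ pow_orderOf_eq_one _

theorem comm : Commute S.x₀ A.u := (S.x₀_comm_R A.huR).symm

/-- The subgroup of order nine. -/
noncomputable def E : Subgroup G := pairSub A.comm (x_cube) A.u_cube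

theorem card_E : Nat.card A.E = 9 := card_pairSub A.comm S.x₀_order A.u_cube A.hun

theorem mem_E {g : G} : g ∈ A.E ↔ ∃ i j : ℕ, g = S.x₀ ^ i * A.u ^ j := Iff.rfl

theorem x_mem : S.x₀ ∈ A.E := ⟨1, 0, by simp⟩

theorem u_mem : A.u ∈ A.E := ⟨0, 1, by simp⟩

theorem E_le_R : A.E ≤ S.R := by
  rintro _ ⟨i, j, rfl⟩
  exact mul_mem (pow_mem S.x₀_mem_R i) (pow_mem A.huR j)

theorem E_comm {a b : G} (ha : a ∈ A.E) (hb : b ∈ A.E) : Commute a b := by
  obtain ⟨i, j, rfl⟩ := ha
  obtain ⟨k, l, rfl⟩ := hb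
  exact Commute.mul_left
    (Commute.mul_right (Commute.pow_pow (Commute.refl _) i k) (A.comm.pow_pow i l))
    (Commute.mul_right (A.comm.symm.pow_pow j k) (Commute.pow_pow (Commute.refl _) j l))

theorem isConj_u : IsConj S.x₀ A.u := S.isConj_of_commute A.hs A.hu A.hus

theorem conj_u_ne_pow {a : G} (ha : Commute a S.x₀) (k : ℕ) : a * A.u * a⁻¹ ≠ S.x₀ ^ k := by
  intro h
  apply A.hun
  have : A.u = S.x₀ ^ k := by
    calc A.u = a⁻¹ * (a * A.u * a⁻¹) * a := by group
      _ = a⁻¹ * S.x₀ ^ k * a := by rw [h]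
      _ = S.x₀ ^ k := by rw [mul_assoc, ← (ha.pow_right k).eq, inv_mul_cancel_left]
  exact this ▸ Subgroup.pow_mem _ (Subgroup.mem_zpowers _) k

theorem not_central : ∃ g ∈ S.R, g * A.u ≠ A.u * g := by
  haveI : Fact (Nat.Prime 3) := ⟨Nat.prime_three⟩
  by_contra! hcon
  obtain ⟨a, ha⟩ := isConj_iff.1 A.isConj_u
  obtain ⟨R', hR'c, -, hR'max⟩ := exists_rad (v := A.u) (n := 3)
    (by rw [card_centralizer_eq_of_isConj A.isConj_u, S.card_centralizer_x₀]; norm_num)
  have hRR : S.R = R' := Subgroup.eq_of_le_of_card_ge (fun y hy => hR'max y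
    (Subgroup.mem_centralizer_singleton_iff.2 (hcon y hy)) (S.odd_of_mem_R hy))
    (by rw [hR'c, S.card_R]; norm_num)
  have haN : a ∈ Subgroup.normalizer (S.R : Set G) := mem_normalizer_of_conj_mem fun y hy => by
    rw [hRR]
    refine hR'max _ (Subgroup.mem_centralizer_singleton_iff.2 ?_)
      (by rw [orderOf_conj]; exact S.odd_of_mem_R hy)
    have h : Commute y S.x₀ := S.x₀_comm_R hy
    have := congrArg (fun w => a * w * a⁻¹) h.eq
    rw [← ha]
    calc a * y * a⁻¹ * (a * S.x₀ * a⁻¹) = a * (y * S.x₀) * a⁻¹ := by group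
      _ = _ := by rw [h.eq]; group
  set N := Subgroup.normalizer (S.R : Set G) with hN
  have hCN : Subgroup.centralizer ({S.x₀} : Set G) ≤ N := fun g hg => S.mem_normalizer_R
    (Or.inl (mul_inv_eq_iff_eq_mul.2 (Subgroup.mem_centralizer_singleton_iff.1 hg)))
  have horb := card_conjOrbit_mul N S.x₀
  rw [inf_eq_right.2 hCN, S.card_centralizer_x₀] at horb
  set o := Nat.card {y : G // ∃ h ∈ N, h * S.x₀ * h⁻¹ = y} with ho
  have ho26 : o ≤ 26 := by
    have hinj : Function.Injective (fun y : {y : G // ∃ h ∈ N, h * S.x₀ * h⁻¹ = y} =>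
        (⟨⟨y.1, by
          obtain ⟨h, hh, he⟩ := y.2
          exact he ▸ (Subgroup.mem_normalizer_iff.1 hh _).1 S.x₀_mem_R⟩, fun h1 => by
          obtain ⟨h, hh, he⟩ := y.2
          have h1' : (y : G) = 1 := congrArg Subtype.val h1
          rw [h1', conj_eq_one_iff] at he
          have := S.x₀_order
          rw [he, orderOf_one] at this
          omega⟩ : {z : S.R // z ≠ 1})) := fun y z hyz =>
      Subtype.ext (congrArg (fun w : {z : S.R // z ≠ 1} => (w.1 : G)) hyz)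
    have h1 := Nat.card_le_card_of_injective _ hinj
    have h2 : Nat.card {z : S.R // z ≠ 1} = 26 := by
      classical
      rw [Nat.card_eq_fintype_card, Fintype.card_subtype_compl, Fintype.card_subtype_eq,
        ← Nat.card_eq_fintype_card, S.card_R]
    omega
  have ho4 : 4 ≤ o := by
    have hmem : ∀ i : Fin 4, ∃ h ∈ N, h * S.x₀ * h⁻¹ = ![S.x₀, S.x₀⁻¹, A.u, A.u⁻¹] i := by
      intro i
      fin_cases i
      · exact ⟨1, one_mem _, by simp⟩
      · exact ⟨A.s, S.mem_normalizer_R (Or.inr A.hsx), by simpa using A.hsx⟩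
      · exact ⟨a, haN, by simpa using ha⟩
      · refine ⟨S.t * a, mul_mem S.t_mem_normalizer_R haN, ?_⟩
        calc S.t * a * S.x₀ * (S.t * a)⁻¹ = S.t * (a * S.x₀ * a⁻¹) * S.t⁻¹ := by group
          _ = _ := by rw [ha, A.htu]; simp
    have hinj : Function.Injective ![S.x₀, S.x₀⁻¹, A.u, A.u⁻¹] := by
      have key : ∀ w : G, orderOf w = 3 → w ≠ w⁻¹ := fun w hw h => by
        have := orderOf_dvd_of_pow_eq_one (x := w) (n := 2) (by
          rw [pow_two]; exact mul_eq_one_iff_eq_inv.2 h)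
        rw [hw] at this
        norm_num at this
      have h1 := key _ S.x₀_order
      have h2 := key _ A.hu
      have h3 : A.u ≠ S.x₀ := fun h => A.hun (h ▸ Subgroup.mem_zpowers _)
      have h4 : A.u ≠ S.x₀⁻¹ := fun h => A.hun (h ▸ inv_mem (Subgroup.mem_zpowers _))
      have h5 : A.u⁻¹ ≠ S.x₀ := fun h => h4 (by rw [← h, inv_inv])
      have h6 : A.u⁻¹ ≠ S.x₀⁻¹ := fun h => h3 (inv_injective h)
      intro i j hij
      fin_cases i <;> fin_cases j <;> simp_all [eq_comm]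
    have := Nat.card_le_card_of_injective (fun i : Fin 4 =>
      (⟨_, hmem i⟩ : {y : G // ∃ h ∈ N, h * S.x₀ * h⁻¹ = y}))
      (fun i j hij => hinj (congrArg Subtype.val hij))
    simpa [ho] using this
  -- count the Sylow subgroups
  obtain ⟨T, hT⟩ := (IsPGroup.of_card (n := 3) (by rw [S.card_R]; norm_num) :
    IsPGroup 3 S.R).exists_le_sylow
  have hTR : (T : Subgroup G) = S.R := by
    refine (Subgroup.eq_of_le_of_card_ge hT ?_).symm
    obtain ⟨k, hk⟩ := T.isPGroup'.exists_card_eq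
    have h1 : Nat.card (T : Subgroup G) ∣ 5616 := S.hcard ▸ Subgroup.card_subgroup_dvd_card _
    rw [hk] at h1 ⊢
    rw [S.card_R]
    have hk4 : ¬ 4 ≤ k := fun h => by
      have := (pow_dvd_pow 3 h).trans h1
      norm_num at this
    calc 3 ^ k ≤ 3 ^ 3 := Nat.pow_le_pow_right (by norm_num) (by omega)
      _ = 27 := by norm_num
  have hn : Nat.card (Sylow 3 G) = N.index := by
    have := T.card_eq_index_normalizer
    change Nat.card (Sylow 3 G) = (Subgroup.normalizer ((T : Subgroup G) : Set G)).index at this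
    rwa [hTR] at this
  have hn1 : Nat.card (Sylow 3 G) % 3 = 1 := card_sylow_modEq_one 3 G
  have hmul := N.card_mul_index
  rw [← horb, S.hcard, ← hn] at hmul
  set n := Nat.card (Sylow 3 G)
  have hon : o * n = 104 := by nlinarith
  have hle : n ≤ 26 := by nlinarith
  have hNtop : N ≠ ⊤ := fun h => by
    haveI := S.simple
    have hnorm : (S.R).Normal := Subgroup.normalizer_eq_top_iff.1 h
    rcases hnorm.eq_bot_or_eq_top with h | h
    · have := S.card_R; rw [h, Subgroup.card_bot] at this; omega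
    · have := S.card_R; rw [h, Subgroup.card_top, S.hcard] at this; omega
  have hn4 : ¬ n ≤ 4 := by rw [hn]; exact S.card_le_four_index hNtop
  have hn13 : n = 13 := by interval_cases n <;> omega
  apply S.not_sixteen_dvd
  rw [← hN, ← horb, show o = 8 by rw [hn13] at hon; omega]
  norm_num

theorem R_le_normalizer : S.R ≤ Subgroup.normalizer (A.E : Set G) :=
  le_normalizer_of_nine A.E_le_R A.card_E S.card_R

theorem t_mem : S.t ∈ Subgroup.normalizer (A.E : Set G) := mem_normalizer_of_conj_mem (by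
  rintro _ ⟨i, j, rfl⟩
  refine ⟨i, 2 * j, ?_⟩
  rw [← conj_mul, ← conj_pow, ← conj_pow, A.htu,
    mul_inv_eq_iff_eq_mul.2 S.x₀_comm.symm, pow_mul,
    eq_inv_of_mul_eq_one_left (by rw [← pow_succ]; exact A.u_cube : A.u ^ 2 * A.u = 1)])

theorem s_mem : A.s ∈ Subgroup.normalizer (A.E : Set G) := mem_normalizer_of_conj_mem (by
  rintro _ ⟨i, j, rfl⟩
  refine ⟨2 * i, j, ?_⟩
  rw [← conj_mul, ← conj_pow, ← conj_pow, A.hsx, mul_inv_eq_iff_eq_mul.2 A.hus.symm, pow_mul,
    eq_inv_of_mul_eq_one_left (by rw [← pow_succ]; exact x_cube : S.x₀ ^ 2 * S.x₀ = 1)])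

theorem centralizer_le : Subgroup.centralizer ({S.x₀} : Set G) ≤
    Subgroup.normalizer (A.E : Set G) := by
  set C := Subgroup.normalizer (A.E : Set G) ⊓ Subgroup.centralizer ({S.x₀} : Set G)
  have h1 : 27 ∣ Nat.card C :=
    S.card_R ▸ Subgroup.card_dvd_of_le (le_inf A.R_le_normalizer S.R_le)
  have h2 : 2 ∣ Nat.card C := S.ht ▸ Subgroup.orderOf_dvd_natCard C
    ⟨A.t_mem, Subgroup.mem_centralizer_singleton_iff.2 S.x₀_comm.symm⟩
  have h := Subgroup.eq_of_le_of_card_ge (inf_le_right : C ≤ _)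
    (by
      rw [S.card_centralizer_x₀]
      exact Nat.le_of_dvd Nat.card_pos
        (Nat.Coprime.mul_dvd_of_dvd_of_dvd (by norm_num : Nat.Coprime 27 2) h1 h2))
  exact h ▸ inf_le_left

/-- Conjugate under the normalizer of `E`. -/
def Rel (a b : G) : Prop := ∃ h ∈ Subgroup.normalizer (A.E : Set G), h * a * h⁻¹ = b

theorem rel_symm {a b : G} (h : A.Rel a b) : A.Rel b a := by
  obtain ⟨c, hc, rfl⟩ := h
  exact ⟨c⁻¹, inv_mem hc, by group⟩

theorem rel_trans {a b c : G} (h : A.Rel a b) (h' : A.Rel b c) : A.Rel a c := by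
  obtain ⟨g, hg, rfl⟩ := h
  obtain ⟨k, hk, rfl⟩ := h'
  exact ⟨k * g, mul_mem hk hg, by group⟩

theorem rel_mixed {i j k l : ℕ} (hi : i % 3 ≠ 0) (hj : j % 3 ≠ 0) (hk : k % 3 ≠ 0)
    (hl : l % 3 ≠ 0) : A.Rel (S.x₀ ^ i * A.u ^ j) (S.x₀ ^ k * A.u ^ l) := by
  have hs : ∀ a b, A.Rel (S.x₀ ^ a * A.u ^ b) (S.x₀ ^ (2 * a) * A.u ^ b) := fun a b =>
    ⟨A.s, A.s_mem, by
      rw [← conj_mul, ← conj_pow, ← conj_pow, A.hsx, mul_inv_eq_iff_eq_mul.2 A.hus.symm, pow_mul,
        eq_inv_of_mul_eq_one_left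
          (by rw [← pow_succ]; exact x_cube : S.x₀ ^ 2 * S.x₀ = 1)]⟩
  have ht : ∀ a b, A.Rel (S.x₀ ^ a * A.u ^ b) (S.x₀ ^ a * A.u ^ (2 * b)) := fun a b =>
    ⟨S.t, A.t_mem, by
      rw [← conj_mul, ← conj_pow, ← conj_pow, A.htu, mul_inv_eq_iff_eq_mul.2 S.x₀_comm.symm,
        pow_mul,
        eq_inv_of_mul_eq_one_left (by rw [← pow_succ]; exact A.u_cube : A.u ^ 2 * A.u = 1)]⟩
  have to_one : ∀ a b, a % 3 ≠ 0 → b % 3 ≠ 0 →
      A.Rel (S.x₀ ^ a * A.u ^ b) (S.x₀ ^ 1 * A.u ^ 1) := by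
    intro a b ha hb
    rw [pow_mod_three x_cube a, pow_mod_three A.u_cube b]
    have h22 : S.x₀ ^ (2 * 2) = S.x₀ ^ 1 := pow_mod_three x_cube _
    have h22' : A.u ^ (2 * 2) = A.u ^ 1 := pow_mod_three A.u_cube _
    rcases (show a % 3 = 1 ∨ a % 3 = 2 by omega) with h | h <;> rw [h] <;>
      rcases (show b % 3 = 1 ∨ b % 3 = 2 by omega) with h' | h' <;> rw [h']
    · exact ⟨1, one_mem _, by simp⟩
    · exact h22' ▸ ht 1 2
    · exact h22 ▸ hs 2 1
    · exact A.rel_trans (h22 ▸ hs 2 2) (h22' ▸ ht 1 2)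
  exact A.rel_trans (to_one i j hi hj) (A.rel_symm (to_one k l hk hl))

theorem rel_all {g : G} (hg : g ∈ A.E) (h1 : g ≠ 1) : A.Rel S.x₀ g := by
  haveI : Fact (Nat.Prime 3) := ⟨Nat.prime_three⟩
  -- from `u` to a mixed element
  obtain ⟨a, haR, ha⟩ := A.not_central
  obtain ⟨i₁, j₁, h₁⟩ :=
    (Subgroup.mem_normalizer_iff.1 (A.R_le_normalizer haR) A.u).1 A.u_mem
  have hax : Commute a S.x₀ := S.x₀_comm_R haR
  have hj₁ : j₁ % 3 ≠ 0 := fun h => A.conj_u_ne_pow hax i₁
    (by rw [h₁, pow_mod_three A.u_cube, h, pow_zero, mul_one])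
  have hi₁ : i₁ % 3 ≠ 0 := fun h => by
    rw [pow_mod_three x_cube, h, pow_zero, one_mul, pow_mod_three A.u_cube] at h₁
    rcases (show j₁ % 3 = 1 ∨ j₁ % 3 = 2 by omega) with h' | h' <;> rw [h'] at h₁
    · rw [pow_one] at h₁; exact ha (mul_inv_eq_iff_eq_mul.1 h₁)
    · refine ha (commute_of_sq (S.odd_of_mem_R haR) ?_).eq
      show a ^ 2 * A.u = A.u * a ^ 2
      apply mul_inv_eq_iff_eq_mul.1
      calc a ^ 2 * A.u * (a ^ 2)⁻¹ = a * (a * A.u * a⁻¹) * a⁻¹ := by
            rw [pow_two]; group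
        _ = (A.u ^ 2) ^ 2 := by rw [h₁, ← conj_pow, h₁]
        _ = A.u := by rw [← pow_mul, pow_mod_three A.u_cube, pow_one]
  -- from `x₀` to a mixed element
  obtain ⟨R', hR'c, hR'le, hR'max⟩ := exists_rad (v := A.u) (n := 3)
    (by rw [card_centralizer_eq_of_isConj A.isConj_u, S.card_centralizer_x₀]; norm_num)
  have hR'odd : ∀ y ∈ R', Odd (orderOf y) := fun y hy =>
    (by rw [hR'c]; decide : Odd (Nat.card R')).of_dvd_nat (Subgroup.orderOf_dvd_natCard _ hy)
  have hER' : A.E ≤ R' := fun y hy => hR'max y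
    (Subgroup.mem_centralizer_singleton_iff.2 (A.E_comm hy A.u_mem).eq)
    (S.odd_of_mem_R (A.E_le_R hy))
  have hR'N : R' ≤ Subgroup.normalizer (A.E : Set G) :=
    le_normalizer_of_nine hER' A.card_E (by rw [hR'c]; norm_num)
  obtain ⟨b, hbR, hb⟩ : ∃ b ∈ R', b * S.x₀ ≠ S.x₀ * b := by
    by_contra! hcon
    have heq : R' = S.R := Subgroup.eq_of_le_of_card_ge
      (fun y hy => S.mem_R y (Subgroup.mem_centralizer_singleton_iff.2 (hcon y hy)) (hR'odd y hy))
      (by rw [hR'c, S.card_R]; norm_num)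
    exact ha (Subgroup.mem_centralizer_singleton_iff.1 (hR'le (heq ▸ haR)))
  have hbu : Commute b A.u := Subgroup.mem_centralizer_singleton_iff.1 (hR'le hbR)
  obtain ⟨i₂, j₂, h₂⟩ := (Subgroup.mem_normalizer_iff.1 (hR'N hbR) S.x₀).1 A.x_mem
  have hi₂ : i₂ % 3 ≠ 0 := fun h => by
    rw [pow_mod_three x_cube, h, pow_zero, one_mul] at h₂
    have hx : S.x₀ = A.u ^ j₂ := by
      calc S.x₀ = b⁻¹ * (b * S.x₀ * b⁻¹) * b := by group
        _ = b⁻¹ * A.u ^ j₂ * b := by rw [h₂]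
        _ = A.u ^ j₂ := by rw [mul_assoc, ← (hbu.pow_right j₂).eq, inv_mul_cancel_left]
    exact hb (hx ▸ (hbu.pow_right j₂).eq)
  have hj₂ : j₂ % 3 ≠ 0 := fun h => by
    rw [pow_mod_three A.u_cube, h, pow_zero, mul_one, pow_mod_three x_cube] at h₂
    rcases (show i₂ % 3 = 1 ∨ i₂ % 3 = 2 by omega) with h' | h' <;> rw [h'] at h₂
    · rw [pow_one] at h₂; exact hb (mul_inv_eq_iff_eq_mul.1 h₂)
    · refine hb (commute_of_sq (hR'odd b hbR) ?_).eq
      show b ^ 2 * S.x₀ = S.x₀ * b ^ 2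
      apply mul_inv_eq_iff_eq_mul.1
      calc b ^ 2 * S.x₀ * (b ^ 2)⁻¹ = b * (b * S.x₀ * b⁻¹) * b⁻¹ := by
            rw [pow_two]; group
        _ = (S.x₀ ^ 2) ^ 2 := by rw [h₂, ← conj_pow, h₂]
        _ = S.x₀ := by rw [← pow_mul, pow_mod_three x_cube, pow_one]
  have hxm : A.Rel S.x₀ (S.x₀ ^ i₂ * A.u ^ j₂) := ⟨b, hR'N hbR, h₂⟩
  have hum : A.Rel A.u (S.x₀ ^ i₁ * A.u ^ j₁) := ⟨a, A.R_le_normalizer haR, h₁⟩
  have hxu : A.Rel S.x₀ A.u :=
    A.rel_trans (A.rel_trans hxm (A.rel_mixed hi₂ hj₂ hi₁ hj₁)) (A.rel_symm hum)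
  obtain ⟨i, j, rfl⟩ := hg
  by_cases hi : i % 3 = 0
  · rw [pow_mod_three x_cube, hi, pow_zero, one_mul] at h1 ⊢
    rw [pow_mod_three A.u_cube] at h1 ⊢
    rcases (show j % 3 = 0 ∨ j % 3 = 1 ∨ j % 3 = 2 by omega) with h | h | h <;> rw [h] at h1 ⊢
    · exact absurd (pow_zero _) h1
    · rw [pow_one]; exact hxu
    · refine A.rel_trans hxu ⟨S.t, A.t_mem, ?_⟩
      rw [A.htu]
      exact (eq_inv_of_mul_eq_one_left (by rw [← pow_succ]; exact A.u_cube)).symm
  · by_cases hj : j % 3 = 0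
    · rw [pow_mod_three A.u_cube, hj, pow_zero, mul_one] at h1 ⊢
      rw [pow_mod_three x_cube] at h1 ⊢
      rcases (show i % 3 = 1 ∨ i % 3 = 2 by omega) with h | h <;> rw [h]
      · exact ⟨1, one_mem _, by simp⟩
      · refine ⟨A.s, A.s_mem, ?_⟩
        rw [A.hsx]
        exact (eq_inv_of_mul_eq_one_left (by rw [← pow_succ]; exact x_cube)).symm
    · exact A.rel_trans hxm (A.rel_mixed hi₂ hj₂ hi hj)

theorem card_normalizer : Nat.card (Subgroup.normalizer (A.E : Set G)) = 432 := by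
  classical
  have horb := card_conjOrbit_mul (Subgroup.normalizer (A.E : Set G)) S.x₀
  rw [inf_eq_right.2 A.centralizer_le, S.card_centralizer_x₀] at horb
  have h8 : Nat.card {y : G // ∃ h ∈ Subgroup.normalizer (A.E : Set G), h * S.x₀ * h⁻¹ = y} = 8 := by
    rw [show 8 = Nat.card {z : A.E // z ≠ 1} by
      rw [Nat.card_eq_fintype_card, Fintype.card_subtype_compl, Fintype.card_subtype_eq,
        ← Nat.card_eq_fintype_card, A.card_E]]
    refine Nat.card_congr
      { toFun := fun y => ⟨⟨y.1, by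
            obtain ⟨h, hh, he⟩ := y.2
            exact he ▸ (Subgroup.mem_normalizer_iff.1 hh _).1 A.x_mem⟩, fun h1 => by
            obtain ⟨h, hh, he⟩ := y.2
            have h1' : (y : G) = 1 := congrArg Subtype.val h1
            rw [h1', conj_eq_one_iff] at he
            have := S.x₀_order
            rw [he, orderOf_one] at this
            omega⟩
        invFun := fun z => ⟨(z.1 : G), A.rel_all z.1.2 fun h => z.2 (Subtype.ext h)⟩
        left_inv := fun y => rfl
        right_inv := fun z => rfl }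
  rw [h8] at horb
  exact horb.symm

/-- A conjugate of `E` inside `R` is `E`. -/
theorem mem_normalizer_of_conj_le_R {g : G} (hg : ∀ e ∈ A.E, g * e * g⁻¹ ∈ S.R) :
    g ∈ Subgroup.normalizer (A.E : Set G) := by
  obtain ⟨e, heE, he1, he⟩ : ∃ e ∈ A.E, e ≠ 1 ∧ g * e * g⁻¹ = S.x₀ := by
    by_contra! hcon
    set E' := A.E.map (MulAut.conj g).toMonoidHom with hE'
    have hle : E' ≤ S.R := by rintro _ ⟨e, he, rfl⟩; exact hg e he
    have hxE' : S.x₀ ∉ E' := by
      rintro ⟨e, he, hex⟩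
      have hex' : g * e * g⁻¹ = S.x₀ := hex
      refine hcon e he (fun h => ?_) hex'
      rw [h, mul_one, mul_inv_cancel] at hex'
      have := S.x₀_order
      rw [← hex', orderOf_one] at this
      omega
    -- the part of `R` centralizing `E'`
    set K := S.R ⊓ Subgroup.centralizer (E' : Set G) with hK
    have hcard' : Nat.card E' = 9 := by
      rw [hE', Subgroup.card_map_of_injective (MulAut.conj g).injective, A.card_E]
    have hEK : E' ≤ K := by
      refine le_inf hle ?_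
      rintro _ ⟨a, ha, rfl⟩
      rw [Subgroup.mem_centralizer_iff]
      rintro _ ⟨b, hb, rfl⟩
      rw [← map_mul, ← map_mul, (A.E_comm hb ha).eq]
    have hxK : S.x₀ ∈ K := ⟨S.x₀_mem_R, Subgroup.mem_centralizer_iff.2 fun y hy =>
      S.x₀_comm_R (hle hy)⟩
    have full : ∀ K' : Subgroup G, E' ≤ K' → S.x₀ ∈ K' → K' ≤ S.R → K' = S.R := by
      intro K' h1 h2 h3
      refine Subgroup.eq_of_le_of_card_ge h3 ?_
      have hd := Subgroup.card_dvd_of_le h3
      have hd' := Subgroup.card_dvd_of_le h1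
      have hne : Nat.card K' ≠ 9 := fun h =>
        hxE' (Subgroup.eq_of_le_of_card_ge h1 (by rw [h, hcard']) ▸ h2)
      rw [S.card_R] at hd ⊢
      rw [hcard'] at hd'
      have hle27 := Nat.le_of_dvd (by norm_num) hd
      obtain ⟨k, hk⟩ := hd'
      have : k ≤ 3 := by omega
      interval_cases k <;> first | omega | (rw [hk] at hd; norm_num at hd)
    have hKR : K = S.R := full K hEK hxK inf_le_left
    set Z := S.R ⊓ Subgroup.centralizer (S.R : Set G) with hZ
    have hEZ : E' ≤ Z := fun y hy => ⟨hle hy, Subgroup.mem_centralizer_iff.2 fun z hz => by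
      have : z ∈ K := hKR.symm ▸ hz
      exact ((Subgroup.mem_centralizer_iff.1 this.2) y hy).symm⟩
    have hxZ : S.x₀ ∈ Z := ⟨S.x₀_mem_R, Subgroup.mem_centralizer_iff.2 fun y hy =>
      S.x₀_comm_R hy⟩
    have hZR : Z = S.R := full Z hEZ hxZ inf_le_left
    obtain ⟨a, haR, ha⟩ := A.not_central
    have : A.u ∈ Z := hZR.symm ▸ A.huR
    exact ha ((Subgroup.mem_centralizer_iff.1 this.2) a haR)
  obtain ⟨h, hh, rfl⟩ := A.rel_all heE he1
  have hgh : g * h ∈ Subgroup.centralizer ({S.x₀} : Set G) := by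
    rw [Subgroup.mem_centralizer_singleton_iff]
    apply mul_inv_eq_iff_eq_mul.1
    calc g * h * S.x₀ * (g * h)⁻¹ = g * (h * S.x₀ * h⁻¹) * g⁻¹ := by group
      _ = S.x₀ := he
  have := mul_mem (A.centralizer_le hgh) (inv_mem hh)
  rwa [mul_inv_cancel_right] at this

/-- A conjugate of `E` inside the normalizer of `E` is `E`. -/
theorem mem_normalizer_of_conj_le {g : G}
    (hg : ∀ e ∈ A.E, g * e * g⁻¹ ∈ Subgroup.normalizer (A.E : Set G)) :
    g ∈ Subgroup.normalizer (A.E : Set G) := by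
  haveI : Fact (Nat.Prime 3) := ⟨Nat.prime_three⟩
  set N := Subgroup.normalizer (A.E : Set G) with hN
  have hR' : IsPGroup 3 (S.R.subgroupOf N) := IsPGroup.of_card (n := 3) (by
    rw [Nat.card_congr (Subgroup.subgroupOfEquivOfLe A.R_le_normalizer).toEquiv, S.card_R]; rfl)
  have hE' : IsPGroup 3 ((A.E.map (MulAut.conj g).toMonoidHom).subgroupOf N) := by
    refine IsPGroup.of_card (n := 2) ?_
    rw [Nat.card_congr (Subgroup.subgroupOfEquivOfLe (by rintro _ ⟨e, he, rfl⟩; exact hg e he :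
      A.E.map (MulAut.conj g).toMonoidHom ≤ N)).toEquiv,
      Subgroup.card_map_of_injective (MulAut.conj g).injective, A.card_E]
    rfl
  obtain ⟨T, hT⟩ := hE'.exists_le_sylow
  obtain ⟨T', hT'⟩ := hR'.exists_le_sylow
  have hT'R : (T' : Subgroup N) = S.R.subgroupOf N := by
    refine (Subgroup.eq_of_le_of_card_ge hT' ?_).symm
    obtain ⟨k, hk⟩ := T'.isPGroup'.exists_card_eq
    have h1 : Nat.card (T' : Subgroup N) ∣ 432 :=
      A.card_normalizer ▸ Subgroup.card_subgroup_dvd_card (T' : Subgroup N)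
    rw [hk] at h1 ⊢
    rw [Nat.card_congr (Subgroup.subgroupOfEquivOfLe A.R_le_normalizer).toEquiv, S.card_R]
    have hk4 : ¬ 4 ≤ k := fun h => by
      have := (pow_dvd_pow 3 h).trans h1
      norm_num at this
    calc 3 ^ k ≤ 3 ^ 3 := Nat.pow_le_pow_right (by norm_num) (by omega)
      _ = 27 := by norm_num
  obtain ⟨n, hn⟩ := MulAction.exists_smul_eq N T T'
  have hng : (n : G) * g ∈ N := by
    refine A.mem_normalizer_of_conj_le_R fun e he => ?_
    have hm : (⟨g * e * g⁻¹, hg e he⟩ : N) ∈ (T : Subgroup N) := hT ⟨e, he, rfl⟩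
    have hm' : n * (⟨g * e * g⁻¹, hg e he⟩ : N) * n⁻¹ ∈ (T' : Subgroup N) := by
      rw [← hn, Sylow.smul_def]
      exact ⟨_, hm, rfl⟩
    rw [hT'R, Subgroup.mem_subgroupOf] at hm'
    have h3 : (n : G) * g * e * ((n : G) * g)⁻¹ = (n : G) * (g * e * g⁻¹) * (n : G)⁻¹ := by group
    rw [h3]
    exact hm'
  have := mul_mem (inv_mem n.2) hng
  rwa [inv_mul_cancel_left] at this

theorem card_inter (B : Side S) (hBA : B.u ∉ A.E)
    (hs : A.s ∈ Subgroup.normalizer (B.E : Set G)) :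
    Nat.card (Subgroup.normalizer (A.E : Set G) ⊓ Subgroup.normalizer (B.E : Set G) : Subgroup G)
      = 108 := by
  set H := Subgroup.normalizer (A.E : Set G) ⊓ Subgroup.normalizer (B.E : Set G)
  have hC : Subgroup.centralizer ({S.x₀} : Set G) ≤ H := le_inf A.centralizer_le B.centralizer_le
  have horb := card_conjOrbit_mul H S.x₀
  rw [inf_eq_right.2 hC, S.card_centralizer_x₀] at horb
  set o := Nat.card {y : G // ∃ h ∈ H, h * S.x₀ * h⁻¹ = y} with ho
  suffices o = 2 by rw [← horb, this]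
  have hsub : ∀ y : {y : G // ∃ h ∈ H, h * S.x₀ * h⁻¹ = y},
      (y : G) = S.x₀ ∨ (y : G) = S.x₀⁻¹ := by
    rintro ⟨_, h, hh, rfl⟩
    obtain ⟨i, j, hij⟩ := (Subgroup.mem_normalizer_iff.1 hh.1 _).1 A.x_mem
    obtain ⟨k, l, hkl⟩ := (Subgroup.mem_normalizer_iff.1 hh.2 _).1 B.x_mem
    have hl : l % 3 = 0 := by
      by_contra hl
      apply hBA
      have hm : B.u ^ l ∈ A.E := by
        have : B.u ^ l = (S.x₀ ^ k)⁻¹ * (h * S.x₀ * h⁻¹) := by rw [hkl]; group
        rw [this]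
        exact mul_mem (inv_mem (pow_mem A.x_mem k)) (hij ▸ A.mem_E.2 ⟨i, j, rfl⟩)
      have : (B.u ^ l) ^ l = B.u := by
        rw [← pow_mul, pow_mod_three B.u_cube]
        have : l * l % 3 = 1 := by
          rw [Nat.mul_mod]
          rcases (show l % 3 = 1 ∨ l % 3 = 2 by omega) with h | h <;> rw [h]
        rw [this, pow_one]
      exact this ▸ pow_mem hm l
    rw [pow_mod_three B.u_cube, hl, pow_zero, mul_one] at hkl
    rcases mem_zpowers_three S.x₀_order
      (hkl ▸ Subgroup.pow_mem _ (Subgroup.mem_zpowers S.x₀) k :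
        h * S.x₀ * h⁻¹ ∈ Subgroup.zpowers S.x₀) with e | e | e
    · have := S.x₀_order
      rw [conj_eq_one_iff.1 e, orderOf_one] at this
      omega
    · exact Or.inl e
    · exact Or.inr e
  have hne : S.x₀ ≠ S.x₀⁻¹ := fun h => by
    have := orderOf_dvd_of_pow_eq_one (x := S.x₀) (n := 2) (by
      rw [pow_two]; exact mul_eq_one_iff_eq_inv.2 h)
    rw [S.x₀_order] at this
    norm_num at this
  rw [ho, Nat.card_eq_two_iff]
  refine ⟨⟨S.x₀, 1, one_mem _, by simp⟩, ⟨S.x₀⁻¹, A.s, ⟨A.s_mem, hs⟩, A.hsx⟩,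
    fun h => hne (congrArg Subtype.val h), ?_⟩
  ext y
  simp only [Set.mem_insert_iff, Set.mem_singleton_iff, Set.mem_univ, iff_true, Subtype.ext_iff]
  exact hsub y

end Side

end Setup

end CfsgLib.Involutions.GLTwoThree
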