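/-
Collinearity in the projective plane of order three as a bit mask.
-/
import Mathlib

set_option autoImplicit false

namespace CfsgLib.Involutions.GLTwoThree

/-- The standard difference set. -/
def baseLine (i : ZMod 13) : Bool := Nat.testBit 523 i.val

/-- All points. -/
def pts : List (ZMod 13) := List.finRange 13

theorem mem_pts : ∀ j : ZMod 13, j ∈ pts := by decide

/-- The mask of collinear triples. -/
def colMask : ℕ := 23061527285722292584705552060164143622675251320434403400384174088677925269595060659790049505028555246363615516848851152700638727381411544463179295816745116639408419843650542896151226442332892573586421885795153245020482360108281032489928258974331175346196762189667849494513584374076919744392571949260566586977406956937827211918777808594297503273440513490378243683727923035974864217404373841096743012661622062110623082668044698793130885654829407369013451619079698813190605432058815104659111877058101790000239202376276129549059914097576445558237029397437547625042680664918153839155936396097634594142311657608083773823023511956547433458335443539610702100819823656959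

/-- Three points lie on a line. -/
def col (a b c : ZMod 13) : Bool := Nat.testBit colMask (169 * a.val + 13 * b.val + c.val)

theorem col_spec : ∀ a b c : ZMod 13, col a b c =
    pts.any fun j : ZMod 13 =>
      baseLine (a - j) && baseLine (b - j) && baseLine (c - j) := by decide +kernel

theorem col_iff (a b c : ZMod 13) :
    col a b c = true ↔ ∃ j, baseLine (a - j) = true ∧ baseLine (b - j) = true ∧ baseLine (c - j) = true := by
  rw [col_spec, List.any_eq_true]
  constructor
  · rintro ⟨j, -, hj⟩
    simp only [Bool.and_eq_true] at hj
    exact ⟨j, hj.1.1, hj.1.2, hj.2⟩
  · rintro ⟨j, h1, h2, h3⟩
    exact ⟨j, mem_pts j, by simp only [h1, h2, h3, Bool.and_self]⟩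

/-- Differences of four points cover everything. -/
def covers (a b : ZMod 13) : Bool :=
  pts.all fun k : ZMod 13 => k == 0 || ([0, 1, a, b].any fun p : ZMod 13 =>
    [0, 1, a, b].any fun q : ZMod 13 => p - q == k)

/-- The normalised difference sets are multiples of translates of the standard one. -/
theorem covers_standard : ∀ a b : ZMod 13, covers a b = true →
    pts.any (fun n : ZMod 13 => n != 0 && pts.any (fun c : ZMod 13 =>
      pts.all fun i : ZMod 13 =>
        ([0, 1, a, b].any fun p : ZMod 13 => i == p) == baseLine (n * (i - c)))) = true := by
  decide +kernel

end CfsgLib.Involutions.GLTwoThree
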