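/-
Collineations of the projective plane of order three in difference set form, and the relabelling of
an incidence geometry with a regular cyclic group of order thirteen.
-/
import Cfsg.Agent.Lib.Involutions.GLTwoThree.PlaneData

set_option autoImplicit false

namespace CfsgLib.Involutions.GLTwoThree

/-- The collineation group. -/
def planeAut : Subgroup (Equiv.Perm (ZMod 13)) where
  carrier := {σ | ∀ a b c, col (σ a) (σ b) (σ c) = col a b c}
  mul_mem' {σ τ} hσ hτ := fun a b c => by
    rw [Equiv.Perm.mul_apply, Equiv.Perm.mul_apply, Equiv.Perm.mul_apply, hσ, hτ]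
  one_mem' := fun _ _ _ => rfl
  inv_mem' {σ} hσ := fun a b c => by
    have := hσ (σ⁻¹ a) (σ⁻¹ b) (σ⁻¹ c)
    rw [Equiv.Perm.coe_inv, σ.apply_symm_apply, σ.apply_symm_apply, σ.apply_symm_apply] at this
    rw [Equiv.Perm.coe_inv, this]

/-- Four points, no three on a line. -/
def general (t : ZMod 13 × ZMod 13 × ZMod 13 × ZMod 13) : Bool :=
  !col t.1 t.2.1 t.2.2.1 && !col t.1 t.2.1 t.2.2.2 && !col t.1 t.2.2.1 t.2.2.2 &&
    !col t.2.1 t.2.2.1 t.2.2.2

theorem count_general :
    (List.map (fun a => (List.map (fun b => (List.map (fun c => pts.countP fun d => general (a, b, c, d))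
      pts).sum) pts).sum) pts).sum = 5616 := by
  decide +kernel

theorem pts_nodup : pts.Nodup := List.nodup_finRange 13

theorem card_general : (Finset.univ.filter fun t => general t = true).card = 5616 := by
  rw [← count_general]
  have hu : (Finset.univ : Finset (ZMod 13)) = ⟨pts, pts_nodup⟩ :=
    Finset.ext fun j => iff_of_true (Finset.mem_univ j) (by
      exact mem_pts j)
  have hc : ∀ f : ZMod 13 → Bool, (Finset.univ.filter fun d => f d = true).card = pts.countP f := by
    intro f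
    rw [hu, Finset.card_def, Finset.filter_val]
    simp [List.countP_eq_length_filter]
  have hs : ∀ f : ZMod 13 → ℕ, ∑ a, f a = (pts.map f).sum := by
    intro f
    rw [hu, Finset.sum_eq_multiset_sum]
    simp
  simp only [← hc, ← hs]
  simp only [Finset.card_filter, Fintype.sum_prod_type]

theorem general_base : general (0, 1, 2, 5) = true := by decide +kernel

theorem derive_points : ∀ z : ZMod 13,
    (col 0 1 z = true → col 2 5 z = true → z = 3) ∧ (col 0 2 z = true → col 1 5 z = true → z = 8) ∧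
    (col 0 5 z = true → col 1 2 z = true → z = 4) ∧ (col 0 1 z = true → col 4 8 z = true → z = 9) ∧
    (col 0 2 z = true → col 5 9 z = true → z = 12) ∧ (col 0 5 z = true → col 1 12 z = true → z = 7) ∧
    (col 1 2 z = true → col 5 9 z = true → z = 10) ∧ (col 0 10 z = true → col 1 5 z = true → z = 6) ∧
    (col 0 10 z = true → col 1 12 z = true → z = 11) := by decide +kernel

theorem derive_cols : col 0 1 3 = true ∧ col 2 5 3 = true ∧ col 0 2 8 = true ∧ col 1 5 8 = true ∧
    col 0 5 4 = true ∧ col 1 2 4 = true ∧ col 0 1 9 = true ∧ col 4 8 9 = true ∧ col 0 2 12 = true ∧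
    col 5 9 12 = true ∧ col 0 5 7 = true ∧ col 1 12 7 = true ∧ col 1 2 10 = true ∧ col 5 9 10 = true ∧
    col 0 10 6 = true ∧ col 1 5 6 = true ∧ col 0 10 11 = true ∧ col 1 12 11 = true := by decide +kernel

theorem eq_one_of_fix {σ : Equiv.Perm (ZMod 13)} (hσ : σ ∈ planeAut) (h0 : σ 0 = 0) (h1 : σ 1 = 1)
    (h2 : σ 2 = 2) (h5 : σ 5 = 5) : σ = 1 := by
  have key : ∀ a b z, σ a = a → σ b = b → col a b z = true → col a b (σ z) = true := by
    intro a b z ha hb hz
    have := hσ a b z
    rw [ha, hb, hz] at this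
    exact this
  obtain ⟨d1, d2, d3, d4, d5, d6, d7, d8, d9, d10, d11, d12, d13, d14, d15, d16, d17, d18⟩ :=
    derive_cols
  have h3 : σ 3 = 3 := (derive_points _).1 (key _ _ _ h0 h1 d1) (key _ _ _ h2 h5 d2)
  have h8 : σ 8 = 8 := (derive_points _).2.1 (key _ _ _ h0 h2 d3) (key _ _ _ h1 h5 d4)
  have h4 : σ 4 = 4 := (derive_points _).2.2.1 (key _ _ _ h0 h5 d5) (key _ _ _ h1 h2 d6)
  have h9 : σ 9 = 9 := (derive_points _).2.2.2.1 (key _ _ _ h0 h1 d7) (key _ _ _ h4 h8 d8)
  have h12 : σ 12 = 12 := (derive_points _).2.2.2.2.1 (key _ _ _ h0 h2 d9) (key _ _ _ h5 h9 d10)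
  have h7 : σ 7 = 7 := (derive_points _).2.2.2.2.2.1 (key _ _ _ h0 h5 d11) (key _ _ _ h1 h12 d12)
  have h10 : σ 10 = 10 := (derive_points _).2.2.2.2.2.2.1 (key _ _ _ h1 h2 d13) (key _ _ _ h5 h9 d14)
  have h6 : σ 6 = 6 := (derive_points _).2.2.2.2.2.2.2.1 (key _ _ _ h0 h10 d15) (key _ _ _ h1 h5 d16)
  have h11 : σ 11 = 11 := (derive_points _).2.2.2.2.2.2.2.2 (key _ _ _ h0 h10 d17) (key _ _ _ h1 h12 d18)
  have hall : ∀ z : ZMod 13, z = 0 ∨ z = 1 ∨ z = 2 ∨ z = 3 ∨ z = 4 ∨ z = 5 ∨ z = 6 ∨ z = 7 ∨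
      z = 8 ∨ z = 9 ∨ z = 10 ∨ z = 11 ∨ z = 12 := by decide
  ext z
  rcases hall z with rfl | rfl | rfl | rfl | rfl | rfl | rfl | rfl | rfl | rfl | rfl | rfl | rfl <;>
    simp [h0, h1, h2, h3, h4, h5, h6, h7, h8, h9, h10, h11, h12]

theorem card_planeAut_le : Nat.card planeAut ≤ 5616 := by
  let f : planeAut → {t // general t = true} := fun σ =>
    ⟨(σ.1 0, σ.1 1, σ.1 2, σ.1 5), by
      have h := general_base
      simp only [general] at h ⊢
      rw [σ.2, σ.2, σ.2, σ.2]
      exact h⟩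
  have hinj : Function.Injective f := by
    intro σ τ h
    have h' := congrArg Subtype.val h
    simp only [f, Prod.mk.injEq] at h'
    obtain ⟨e0, e1, e2, e5⟩ := h'
    have : (τ.1)⁻¹ * σ.1 = 1 := by
      refine eq_one_of_fix (planeAut.mul_mem (planeAut.inv_mem τ.2) σ.2) ?_ ?_ ?_ ?_ <;>
        simp [Equiv.Perm.mul_apply, e0, e1, e2, e5]
    exact Subtype.ext (inv_mul_eq_one.1 this).symm
  refine (Nat.card_le_card_of_injective f hinj).trans (le_of_eq ?_)
  rw [Nat.card_eq_fintype_card, Fintype.card_subtype, card_general]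

/-- A four element set whose differences cover everything is a multiple of a translate of the
standard one. -/
theorem exists_multiplier (D : Finset (ZMod 13)) (h4 : D.card = 4)
    (hd : ∀ k : ZMod 13, k ≠ 0 → ∃ a ∈ D, ∃ b ∈ D, a - b = k) :
    ∃ m n c : ZMod 13, n * m = 1 ∧ ∀ i, (i ∈ D ↔ baseLine (n * (i - c)) = true) := by
  obtain ⟨p, hp, q, hq, hpq⟩ := hd 1 (by decide)
  have hpq' : p = q + 1 := by linear_combination hpq
  have hne : p ≠ q := fun e => by rw [e, sub_self] at hpq; exact absurd hpq (by decide)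
  have hcard : ((D.erase p).erase q).card = 2 := by
    rw [Finset.card_erase_of_mem (Finset.mem_erase.2 ⟨hne.symm, hq⟩),
      Finset.card_erase_of_mem hp, h4]
  obtain ⟨u, v, -, huv⟩ := Finset.card_eq_two.1 hcard
  have hmem : ∀ i, i ∈ D ↔ i - q = 0 ∨ i - q = 1 ∨ i - q = u - q ∨ i - q = v - q := by
    intro i
    have h := Finset.ext_iff.1 huv i
    simp only [Finset.mem_erase, Finset.mem_insert, Finset.mem_singleton] at h
    rw [sub_eq_zero, sub_left_inj, sub_left_inj, sub_eq_iff_eq_add', ← hpq']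
    constructor
    · intro hi
      by_cases h1 : i = q
      · exact Or.inl h1
      by_cases h2 : i = p
      · exact Or.inr (Or.inl h2)
      exact Or.inr (Or.inr (h.1 ⟨h1, h2, hi⟩))
    · rintro (rfl | rfl | h1)
      · exact hq
      · exact hp
      · exact (h.2 h1).2.2
  have hcov : covers (u - q) (v - q) = true := by
    rw [covers, List.all_eq_true]
    intro k _
    by_cases hk : k = 0
    · simp [hk]
    obtain ⟨x, hx, z, hz, hxz⟩ := hd k hk
    simp only [Bool.or_eq_true, List.any_eq_true, beq_iff_eq]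
    refine Or.inr ⟨x - q, ?_, z - q, ?_, by rw [sub_sub_sub_cancel_right, hxz]⟩
    · simpa using (hmem x).1 hx
    · simpa using (hmem z).1 hz
  obtain ⟨n, c', hn, h'⟩ : ∃ n c' : ZMod 13, n ≠ 0 ∧ ∀ i,
      ((i = 0 ∨ i = 1 ∨ i = u - q ∨ i = v - q) ↔ baseLine (n * (i - c')) = true) := by
    have h := covers_standard _ _ hcov
    simp only [List.any_eq_true, Bool.and_eq_true, List.all_eq_true] at h
    obtain ⟨n, -, hn, c', -, hc'⟩ := h
    refine ⟨n, c', by simpa using hn, fun i => ?_⟩
    have := beq_iff_eq.1 (hc' i (mem_pts i))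
    rw [← this]
    simp
  have h : ∀ i, i ∈ D ↔ baseLine (n * (i - (q + c'))) = true := fun i => by
    rw [hmem, h', sub_sub]
  set c := q + c'
  have hinv : ∀ n : ZMod 13, n ≠ 0 → ∃ m, n * m = 1 := by decide
  obtain ⟨m, hm⟩ := hinv n hn
  exact ⟨m, n, c, hm, h⟩

variable {G : Type*} [Group G] {α β : Type*} [MulAction G α] [MulAction G β]

/-- An invariant incidence with a regular element of order thirteen on points and lines, four points
on the base line, and any two points collinear, maps the group into the collineation group. -/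
theorem exists_hom_planeAut (I : α → β → Prop) (hI : ∀ (g : G) a b, I (g • a) (g • b) ↔ I a b)
    (y : G) (hy : y ^ 13 = 1) (a₀ : α) (b₀ : β)
    (hα : Function.Bijective fun i : ZMod 13 => y ^ i.val • a₀)
    (hβ : Function.Bijective fun i : ZMod 13 => y ^ i.val • b₀)
    (hline : Nat.card {a // I a b₀} = 4) (hpair : ∀ a, a ≠ a₀ → ∃ b, I a₀ b ∧ I a b) :
    ∃ φ : G →* planeAut, ∀ g, φ g = 1 → ∀ a : α, g • a = a := by
  classical
  let fa := Equiv.ofBijective _ hα
  let fb := Equiv.ofBijective _ hβ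
  have hadd : ∀ i j : ZMod 13, y ^ (i + j).val = y ^ i.val * y ^ j.val := fun i j => by
    rw [← pow_add, ZMod.val_add, ← pow_eq_pow_mod _ hy]
  have shift : ∀ i j, I (fa i) (fb j) ↔ I (fa (i - j)) b₀ := fun i j => by
    show I (y ^ i.val • a₀) (y ^ j.val • b₀) ↔ I (y ^ (i - j).val • a₀) b₀
    rw [← hI (y ^ j.val) (y ^ (i - j).val • a₀) b₀, ← mul_smul, ← hadd, add_sub_cancel]
  let D : Finset (ZMod 13) := Finset.univ.filter fun i => I (fa i) b₀
  have hD4 : D.card = 4 := by
    rw [← hline, ← Nat.card_congr (fa.subtypeEquiv (q := fun a => I a b₀) fun i => Iff.rfl),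
      Nat.card_eq_fintype_card, Fintype.card_subtype]
  have hdiff : ∀ k : ZMod 13, k ≠ 0 → ∃ a ∈ D, ∃ b ∈ D, a - b = k := by
    intro k hk
    have h0 : fa 0 = a₀ := by simp [fa]
    obtain ⟨b, hb1, hb2⟩ := hpair (fa k) fun e => hk (fa.injective (e.trans h0.symm))
    obtain ⟨j, rfl⟩ := fb.surjective b
    rw [← h0, shift] at hb1
    rw [shift] at hb2
    exact ⟨k - j, by simp [D, hb2], 0 - j, Finset.mem_filter.2 ⟨Finset.mem_univ _, hb1⟩, by ring⟩
  obtain ⟨m, n, c, hnm, hD⟩ := exists_multiplier D hD4 hdiff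
  -- new labels
  let pa : ZMod 13 ≃ α :=
    { toFun := fun i => fa (m * i)
      invFun := fun a => n * fa.symm a
      left_inv := fun i => by simp [← mul_assoc, hnm]
      right_inv := fun a => by
        dsimp only
        rw [← mul_assoc, mul_comm m n, hnm, one_mul, fa.apply_symm_apply] }
  let C : α → α → α → Prop := fun p q r => ∃ b, I p b ∧ I q b ∧ I r b
  have hinc : ∀ i j, I (pa i) (fb (m * j - c)) ↔ baseLine (i - j) = true := fun i j => by
    show I (fa (m * i)) _ ↔ _
    rw [shift]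
    have hmem : I (fa (m * i - (m * j - c))) b₀ ↔ m * i - (m * j - c) ∈ D := by simp [D]
    rw [hmem, hD]
    have : n * (m * i - (m * j - c) - c) = n * m * (i - j) := by ring
    rw [this, hnm, one_mul]
  have hcol : ∀ i j k, col i j k = true ↔ C (pa i) (pa j) (pa k) := fun i j k => by
    rw [col_iff]
    constructor
    · rintro ⟨l, h1, h2, h3⟩
      exact ⟨_, (hinc i l).2 h1, (hinc j l).2 h2, (hinc k l).2 h3⟩
    · rintro ⟨b, h1, h2, h3⟩
      obtain ⟨l, rfl⟩ := fb.surjective b
      have hl : l = m * (n * (l + c)) - c := by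
        rw [← mul_assoc, mul_comm m n, hnm]; ring
      rw [hl] at h1 h2 h3
      exact ⟨_, (hinc i _).1 h1, (hinc j _).1 h2, (hinc k _).1 h3⟩
  have hmem : ∀ g : G, pa.symm.permCongr (MulAction.toPerm g) ∈ planeAut := by
    intro g i j k
    rw [Bool.eq_iff_iff, hcol, hcol]
    simp only [Equiv.permCongr_apply, Equiv.symm_symm, MulAction.toPerm_apply, Equiv.apply_symm_apply]
    constructor
    · rintro ⟨b, h1, h2, h3⟩
      rw [← smul_inv_smul g b] at h1 h2 h3
      exact ⟨_, (hI g _ _).1 h1, (hI g _ _).1 h2, (hI g _ _).1 h3⟩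
    · rintro ⟨b, h1, h2, h3⟩
      exact ⟨g • b, (hI g _ _).2 h1, (hI g _ _).2 h2, (hI g _ _).2 h3⟩
  refine ⟨MonoidHom.codRestrict (pa.symm.permCongrHom.toMonoidHom.comp (MulAction.toPermHom G α))
    planeAut hmem, fun g hg a => ?_⟩
  have h := congrArg (fun π : planeAut => π.1 (pa.symm a)) hg
  simpa using h

end CfsgLib.Involutions.GLTwoThree
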