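/-
The projective plane of order three of a simple group of order 5616.
-/
import Cfsg.Agent.Lib.Involutions.GLTwoThree.Normalizers
import Cfsg.Agent.Lib.Involutions.GLTwoThree.PlaneAut

set_option autoImplicit false

open Cfsg

namespace CfsgLib.Involutions.GLTwoThree

universe u

variable {G : Type u} [Group G]

/-- An action of a group of order nine without fixed points, all nontrivial elements fixing the same
number of points, lives on a multiple of nine or at least twelve points. -/
theorem nine_dvd_or_twelve_le {E X : Type*} [Group E] [Fintype E] [Fintype X] [MulAction E X]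
    (hc : ∀ a b : E, a * b = b * a) (hE : Fintype.card E = 9)
    (hfix : ∀ q : X, ∃ e : E, e • q ≠ q)
    (hconst : ∀ e e' : E, e ≠ 1 → e' ≠ 1 →
      Nat.card {q : X // e • q = q} = Nat.card {q : X // e' • q = q}) :
    9 ∣ Fintype.card X ∨ 12 ≤ Fintype.card X := by
  classical
  have hswap : ∑ e : E, Fintype.card (MulAction.fixedBy X e) =
      ∑ q : X, Fintype.card (MulAction.stabilizer E q) := by
    have h1 : ∀ e : E, Fintype.card (MulAction.fixedBy X e) =
        ∑ q : X, if e • q = q then 1 else 0 := fun e => by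
      rw [← Finset.card_filter, ← Fintype.card_subtype]
      exact Fintype.card_congr (Equiv.subtypeEquivRight fun q => Iff.rfl)
    have h2 : ∀ q : X, Fintype.card (MulAction.stabilizer E q) =
        ∑ e : E, if e • q = q then 1 else 0 := fun q => by
      rw [← Finset.card_filter, ← Fintype.card_subtype]
      exact Fintype.card_congr (Equiv.subtypeEquivRight fun e => Iff.rfl)
    simp only [h1, h2]
    exact Finset.sum_comm
  have hb := MulAction.sum_card_fixedBy_eq_card_orbits_mul_card_group E X
  rw [hE] at hb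
  by_cases hfree : ∀ e : E, ∀ q : X, e • q = q → e = 1
  · left
    have : ∀ q : X, Fintype.card (MulAction.stabilizer E q) = 1 := fun q => by
      have : MulAction.stabilizer E q = ⊥ := (Subgroup.eq_bot_iff_forall _).2 fun e he => hfree e q he
      rw [← Nat.card_eq_fintype_card, this, Subgroup.card_bot]
    rw [hswap, Finset.sum_congr rfl (fun q _ => this q), Finset.sum_const, Finset.card_univ,
      smul_eq_mul, mul_one] at hb
    exact ⟨_, hb.trans (mul_comm _ _)⟩
  · right
    push Not at hfree
    obtain ⟨e₀, q₀, h₀, he₀⟩ := hfree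
    have hstab : ∀ q : X, Fintype.card (MulAction.stabilizer E q) ≤ 3 := fun q => by
      have hd := (MulAction.stabilizer E q).card_subgroup_dvd_card
      rw [Nat.card_eq_fintype_card, Nat.card_eq_fintype_card, hE] at hd
      have hne : Fintype.card (MulAction.stabilizer E q) ≠ 9 := fun h => by
        obtain ⟨e, he⟩ := hfix q
        have : MulAction.stabilizer E q = ⊤ := Subgroup.eq_top_of_card_eq _ (by
          rw [Nat.card_eq_fintype_card, Nat.card_eq_fintype_card, h, hE])
        exact he (MulAction.mem_stabilizer_iff.1 (this ▸ Subgroup.mem_top e))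
      have hle := Nat.le_of_dvd (by norm_num) hd
      interval_cases Fintype.card (MulAction.stabilizer E q) <;> omega
    have horb : 3 ≤ Nat.card (MulAction.orbit E q₀) := by
      have h := Nat.card_congr (MulAction.orbitProdStabilizerEquivGroup E q₀)
      rw [Nat.card_prod, Nat.card_eq_fintype_card (α := MulAction.stabilizer E q₀),
        Nat.card_eq_fintype_card (α := E), hE] at h
      have := hstab q₀
      nlinarith
    have hf : ∀ e : E, e ≠ 1 → 3 ≤ Fintype.card (MulAction.fixedBy X e) := fun e he => by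
      refine le_trans horb ?_
      rw [show Fintype.card (MulAction.fixedBy X e) = Nat.card {q : X // e₀ • q = q} by
        rw [← hconst e e₀ he he₀, ← Nat.card_eq_fintype_card]; rfl]
      refine Nat.card_le_card_of_injective (fun q => ⟨q.1, ?_⟩)
        (fun a b h => Subtype.ext (congrArg (fun z : {q : X // e₀ • q = q} => z.1) h))
      obtain ⟨a, ha⟩ := q.2
      have ha' : a • q₀ = (q : X) := ha
      rw [← ha', ← mul_smul, hc, mul_smul, h₀]
    have hsum : Fintype.card X + 8 * 3 ≤ ∑ e : E, Fintype.card (MulAction.fixedBy X e) := by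
      rw [← Finset.add_sum_erase _ _ (Finset.mem_univ (1 : E))]
      refine add_le_add (le_of_eq ?_) ?_
      · rw [← Fintype.card_congr (Equiv.subtypeUnivEquiv
          (p := fun q : X => q ∈ MulAction.fixedBy X (1 : E)) fun q => one_smul E q)]
      · have := Finset.card_nsmul_le_sum (Finset.univ.erase (1 : E))
          (fun e => Fintype.card (MulAction.fixedBy X e)) 3
          (fun e he => hf e (Finset.ne_of_mem_erase he))
        rw [Finset.card_erase_of_mem (Finset.mem_univ _), Finset.card_univ, hE, smul_eq_mul] at this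
        exact this
    have hle : ∑ q : X, Fintype.card (MulAction.stabilizer E q) ≤ Fintype.card X * 3 :=
      le_trans (Finset.sum_le_card_nsmul _ _ 3 fun q _ => hstab q) (le_of_eq (by simp))
    rw [hswap] at hsum
    omega

/-- A cyclic group of order thirteen is regular on the cosets of a subgroup of index thirteen. -/
theorem bijective_pow_smul [Finite G] {y : G} (hy : orderOf y = 13) (H : Subgroup G)
    (hi : H.index = 13) (hH : ¬ 13 ∣ Nat.card H) :
    Function.Bijective fun i : ZMod 13 => y ^ i.val • ((1 : G) : G ⧸ H) := by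
  refine (Nat.bijective_iff_injective_and_card _).2
    ⟨fun i j hij => ?_, by rw [Nat.card_zmod, ← hi]; rfl⟩
  simp only [MulAction.Quotient.smul_coe, smul_eq_mul, mul_one, QuotientGroup.eq] at hij
  have key : ∀ n : ℤ, y ^ n ∈ H → (13 : ℤ) ∣ n := by
    intro n hn
    have h1 : orderOf (y ^ n) ∣ 13 := orderOf_dvd_of_pow_eq_one (by
      rw [← zpow_natCast, ← zpow_mul, mul_comm, zpow_mul, zpow_natCast, ← hy, pow_orderOf_eq_one,
        one_zpow])
    rcases (Nat.dvd_prime (by norm_num)).1 h1 with h | h
    · have := orderOf_dvd_iff_zpow_eq_one.2 (orderOf_eq_one_iff.1 h)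
      rw [hy] at this
      exact_mod_cast this
    · exact absurd (h ▸ Subgroup.orderOf_dvd_natCard _ hn) hH
  have hz := key ((j.val : ℤ) - i.val) (by
    rw [show (j.val : ℤ) - i.val = -(i.val : ℤ) + j.val by ring, zpow_add, zpow_neg, zpow_natCast,
      zpow_natCast]
    exact hij)
  have hi' := i.val_lt
  have hj' := j.val_lt
  exact ZMod.val_injective 13 (by omega)

namespace Setup

variable [Fintype G] (S : Setup G)

theorem exists_sides : ∃ A B : Side S, B.u ∉ A.E ∧
    A.s ∈ Subgroup.normalizer (B.E : Set G) := by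
  obtain ⟨r, hr2, hrne, hrt, htr2, hrx, htrx⟩ := S.exists_r
  obtain ⟨A, hA⟩ := S.exists_side hr2 hrne hrt hrx
  have htrne : S.t * r ≠ S.t := fun h => ne_one hr2 (mul_left_cancel (h.trans (mul_one _).symm))
  obtain ⟨B, hB⟩ := S.exists_side htr2 htrne (by rw [mul_assoc, hrt]) htrx
  refine ⟨A, B, fun h => ?_, ?_⟩
  · obtain ⟨i, j, hij⟩ := h
    have htx : S.t * S.x₀ * S.t⁻¹ = S.x₀ := mul_inv_eq_iff_eq_mul.2 S.x₀_comm.symm
    have h1 := B.htu
    rw [hij, ← conj_mul, ← conj_pow, ← conj_pow, htx, A.htu, mul_inv_rev, inv_pow,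
      ← ((A.comm.pow_pow i j).inv_inv).eq] at h1
    have h2 : S.x₀ ^ i = (S.x₀ ^ i)⁻¹ := mul_right_cancel h1
    have hi : i % 3 = 0 := by
      have := orderOf_dvd_of_pow_eq_one (x := S.x₀) (n := i + i) (by
        rw [pow_add]; exact mul_eq_one_iff_eq_inv.2 h2)
      rw [S.x₀_order] at this
      omega
    rw [pow_mod_three Side.x_cube, hi, pow_zero, one_mul] at hij
    -- then `t` centralizes `B.u`
    have hr : Commute B.u r := by
      rw [hij]; exact ((show Commute A.u r from hA ▸ A.hus).pow_left j)
    have htr : Commute B.u (S.t * r) := hB ▸ B.hus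
    have ht : Commute B.u S.t := by
      have := htr.mul_right hr.inv_right
      rwa [mul_inv_cancel_right] at this
    have h3 := B.htu
    rw [mul_inv_eq_iff_eq_mul.2 ht.eq.symm] at h3
    have h4 : orderOf B.u ∣ 2 := orderOf_dvd_of_pow_eq_one (by
      rw [pow_two]; exact mul_eq_one_iff_eq_inv.2 h3)
    rw [B.hu] at h4
    norm_num at h4
  · have : S.t * B.s ∈ Subgroup.normalizer (B.E : Set G) := mul_mem B.t_mem B.s_mem
    rwa [hB, ← mul_assoc, mul_self_eq_one S.ht, one_mul, ← hA] at this

include S in
theorem nonempty_equiv : Nonempty (G ≃* planeAut) := by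
  classical
  haveI : Fact (Nat.Prime 13) := ⟨by norm_num⟩
  obtain ⟨A, B, hBA, hAs⟩ := S.exists_sides
  set N1 := Subgroup.normalizer (A.E : Set G) with hN1
  set N2 := Subgroup.normalizer (B.E : Set G) with hN2
  have h432 : Nat.card N1 = 432 := A.card_normalizer
  have h432' : Nat.card N2 = 432 := B.card_normalizer
  have hidx : ∀ H : Subgroup G, Nat.card H = 432 → H.index = 13 := fun H hH => by
    have := H.card_mul_index
    rw [hH, S.hcard] at this
    omega
  let I : (G ⧸ N1) → (G ⧸ N2) → Prop := fun p l => ∃ g : G, (g : G ⧸ N1) = p ∧ (g : G ⧸ N2) = l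
  have hI' : ∀ (g : G) a b, I a b → I (g • a) (g • b) := by
    rintro g _ _ ⟨k, rfl, rfl⟩
    exact ⟨g * k, rfl, rfl⟩
  have hI : ∀ (g : G) a b, I (g • a) (g • b) ↔ I a b := fun g a b =>
    ⟨fun h => by simpa using hI' g⁻¹ _ _ h, hI' g a b⟩
  -- four points on the base line
  have hline : Nat.card {a // I a ((1 : G) : G ⧸ N2)} = 4 := by
    let f : N2 ⧸ N1.subgroupOf N2 → {a // I a ((1 : G) : G ⧸ N2)} := fun q =>
      Quotient.liftOn' q (fun h => ⟨((h : G) : G ⧸ N1), h, rfl,
        QuotientGroup.eq.2 (by simpa using inv_mem h.2)⟩)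
        (fun a b hab => Subtype.ext (QuotientGroup.eq.2 (by
          rw [QuotientGroup.leftRel_apply, Subgroup.mem_subgroupOf] at hab
          simpa using hab)))
    have hf : Function.Bijective f := by
      constructor
      · intro p q hpq
        induction p using QuotientGroup.induction_on with
        | H a =>
        induction q using QuotientGroup.induction_on with
        | H b =>
        refine QuotientGroup.eq.2 (Subgroup.mem_subgroupOf.2 ?_)
        have := QuotientGroup.eq.1 (congrArg Subtype.val hpq)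
        simpa using this
      · rintro ⟨a, g, hga, hg⟩
        have hg' : g ∈ N2 := by simpa using QuotientGroup.eq.1 hg
        exact ⟨((⟨g, hg'⟩ : N2) : N2 ⧸ N1.subgroupOf N2), Subtype.ext hga⟩
    rw [← Nat.card_eq_of_bijective f hf]
    have h108 : Nat.card (N1.subgroupOf N2) = 108 := by
      rw [← A.card_inter B hBA hAs, ← Subgroup.inf_subgroupOf_right,
        Nat.card_congr (Subgroup.subgroupOfEquivOfLe inf_le_right).toEquiv]
    have := (N1.subgroupOf N2).card_mul_index
    rw [h108, h432', Subgroup.index] at this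
    omega
  set base : G ⧸ N1 := ((1 : G) : G ⧸ N1) with hbase
  have hfixbase : ∀ g ∈ N1, g • base = base := fun g hg =>
    QuotientGroup.eq.2 (by simpa using inv_mem hg)
  have honly : ∀ q : G ⧸ N1, (∀ e ∈ A.E, e • q = q) → q = base := by
    intro q
    induction q using QuotientGroup.induction_on with
    | H g =>
    intro h
    refine QuotientGroup.eq.2 ?_
    rw [mul_one]
    apply A.mem_normalizer_of_conj_le
    intro e he
    have := QuotientGroup.eq.1 (h e he)
    rw [inv_inv]
    have h' : (e * g)⁻¹ * g = (g⁻¹ * e * g)⁻¹ := by group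
    change (e * g)⁻¹ * g ∈ N1 at this
    rw [h', inv_mem_iff] at this
    exact this
  have hEle : A.E ≤ N1 := le_trans A.E_le_R A.R_le_normalizer
  -- invariant sets off the base point
  have hset : ∀ P : (G ⧸ N1) → Prop, ¬ P base → (∀ g ∈ N1, ∀ q, P q → P (g • q)) →
      (∃ q, P q) → 9 ∣ Nat.card {q // P q} ∨ 12 ≤ Nat.card {q // P q} := by
    intro P hP hinv _
    letI : SMul A.E {q // P q} := ⟨fun e q => ⟨(e : G) • q.1, hinv e (hEle e.2) q.1 q.2⟩⟩
    letI : MulAction A.E {q // P q} :=
      { one_smul := fun q => Subtype.ext (one_smul G q.1)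
        mul_smul := fun a b q => Subtype.ext (mul_smul (a : G) (b : G) q.1) }
    rw [Nat.card_eq_fintype_card]
    refine nine_dvd_or_twelve_le (E := A.E)
      (fun a b => Subtype.ext (A.E_comm a.2 b.2).eq)
      (by rw [← Nat.card_eq_fintype_card]; exact A.card_E) ?_ ?_
    · intro q
      by_contra! hcon
      exact hP (honly q.1 (fun e he => congrArg Subtype.val (hcon ⟨e, he⟩)) ▸ q.2)
    · intro e e' he he'
      obtain ⟨h, hh, hhe⟩ := A.rel_trans
        (A.rel_symm (A.rel_all e.2 fun h => he (Subtype.ext h)))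
        (A.rel_all e'.2 fun h => he' (Subtype.ext h))
      refine Nat.card_congr
        { toFun := fun q => ⟨⟨h • q.1.1, hinv h hh _ q.1.2⟩, Subtype.ext ?_⟩
          invFun := fun q => ⟨⟨h⁻¹ • q.1.1, hinv h⁻¹ (inv_mem hh) _ q.1.2⟩, Subtype.ext ?_⟩
          left_inv := fun q => Subtype.ext (Subtype.ext (inv_smul_smul h q.1.1))
          right_inv := fun q => Subtype.ext (Subtype.ext (smul_inv_smul h q.1.1)) }
      · show (e' : G) • h • q.1.1 = h • q.1.1
        have hq : (e : G) • q.1.1 = q.1.1 := congrArg Subtype.val q.2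
        rw [← hhe, ← mul_smul, inv_mul_cancel_right, mul_smul, hq]
      · show (e : G) • h⁻¹ • q.1.1 = h⁻¹ • q.1.1
        have hq : (e' : G) • q.1.1 = q.1.1 := congrArg Subtype.val q.2
        have he2 : (e : G) * h⁻¹ = h⁻¹ * (e' : G) := by rw [← hhe]; group
        rw [← mul_smul, he2, mul_smul, hq]
  let Δ : (G ⧸ N1) → Prop := fun q => q ≠ base ∧ ∃ l, I base l ∧ I q l
  have hΔinv : ∀ g ∈ N1, ∀ q, Δ q → Δ (g • q) := by
    rintro g hg q ⟨h1, l, h2, h3⟩
    refine ⟨fun h => h1 (MulAction.injective g (h.trans (hfixbase g hg).symm)), g • l, ?_,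
      hI' g _ _ h3⟩
    have := hI' g _ _ h2
    rwa [hfixbase g hg] at this
  have hΔne : ∃ q, Δ q := by
    by_contra! hcon
    have hle : Nat.card {a // I a ((1 : G) : G ⧸ N2)} ≤ 1 := by
      refine Finite.card_le_one_iff_subsingleton.2 ⟨fun a b => Subtype.ext ?_⟩
      have key : ∀ a, I a ((1 : G) : G ⧸ N2) → a = base := fun a ha => by
        by_contra h
        exact hcon a ⟨h, _, ⟨1, rfl, rfl⟩, ha⟩
      rw [key _ a.2, key _ b.2]
    omega
  have hall : ∀ q, q ≠ base → Δ q := by
    by_contra! hcon
    obtain ⟨q', hq'1, hq'2⟩ := hcon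
    let Δ' : (G ⧸ N1) → Prop := fun q => q ≠ base ∧ ¬ Δ q
    have hΔ'inv : ∀ g ∈ N1, ∀ q, Δ' q → Δ' (g • q) := by
      rintro g hg q ⟨h1, h2⟩
      refine ⟨fun h => h1 (MulAction.injective g (h.trans (hfixbase g hg).symm)), fun h => h2 ?_⟩
      simpa using hΔinv g⁻¹ (inv_mem hg) _ h
    have c1 := hset Δ (fun h => h.1 rfl) hΔinv hΔne
    have c2 := hset Δ' (fun h => h.1 rfl) hΔ'inv ⟨q', hq'1, hq'2⟩
    have hsum : Nat.card {q // Δ q} + Nat.card {q // Δ' q} = 12 := by
      have h13 : Fintype.card (G ⧸ N1) = 13 := by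
        rw [← Nat.card_eq_fintype_card]; exact hidx N1 h432
      have h12 : Fintype.card {q : G ⧸ N1 // q ≠ base} = 12 := by
        rw [Fintype.card_subtype_compl, h13, Fintype.card_subtype_eq]
      rw [Nat.card_eq_fintype_card, Nat.card_eq_fintype_card, Fintype.card_subtype,
        Fintype.card_subtype, ← h12, Fintype.card_subtype,
        ← Finset.card_union_of_disjoint (Finset.disjoint_filter.2 fun q _ h1 h2 => h2.2 h1)]
      congr 1
      ext q
      simp only [Finset.mem_union, Finset.mem_filter, Finset.mem_univ, true_and, Δ']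
      constructor
      · rintro (h | h)
        · exact h.1
        · exact h.1
      · intro h
        by_cases h' : Δ q
        · exact Or.inl h'
        · exact Or.inr ⟨h, h'⟩
    haveI : Nonempty {q // Δ q} := nonempty_subtype.2 hΔne
    haveI : Nonempty {q // Δ' q} := ⟨⟨q', hq'1, hq'2⟩⟩
    have := Nat.card_pos (α := {q // Δ q})
    have := Nat.card_pos (α := {q // Δ' q})
    omega
  obtain ⟨y, hy⟩ := exists_prime_orderOf_dvd_card' (G := G) 13 (by rw [S.hcard]; norm_num)
  obtain ⟨φ, hφ⟩ := exists_hom_planeAut I hI y (hy ▸ pow_orderOf_eq_one y) base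
    ((1 : G) : G ⧸ N2)
    (bijective_pow_smul hy N1 (hidx N1 h432) (by rw [h432]; norm_num))
    (bijective_pow_smul hy N2 (hidx N2 h432') (by rw [h432']; norm_num)) hline
    (fun a ha => (hall a ha).2)
  haveI := S.simple
  have hinj : Function.Injective φ := by
    rw [← MonoidHom.ker_eq_bot_iff]
    refine (φ.normal_ker.eq_bot_or_eq_top).resolve_right fun h => ?_
    have htop : N1 = ⊤ := eq_top_iff.2 fun g _ => by
      have := hφ g (MonoidHom.mem_ker.1 (h ▸ Subgroup.mem_top g)) base
      rw [hbase, MulAction.Quotient.smul_coe, QuotientGroup.eq] at this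
      simpa using this
    rw [htop, Subgroup.card_top, S.hcard] at h432
    omega
  exact ⟨MulEquiv.ofBijective φ ((Nat.bijective_iff_injective_and_card φ).2
    ⟨hinj, le_antisymm (Nat.card_le_card_of_injective _ hinj)
      (by rw [S.hcard]; exact card_planeAut_le)⟩)⟩

end Setup

end CfsgLib.Involutions.GLTwoThree
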