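/-
Simple groups have no proper normal subgroup of 2-power index.
-/
import Cfsg.Agent.Lib.Involutions.GLTwoThree.Order
import Cfsg.Agent.Lib.FusionExamples.Hyperfocal

set_option autoImplicit false

open Cfsg

namespace CfsgLib.Involutions.GLTwoThree

theorem pResidual_eq_top_of_simple {G : Type*} [Group G] [Finite G] [IsSimpleGroup G]
    (h3 : 3 ∣ Nat.card G) : pResidual 2 G = ⊤ := by
  haveI : Fact (Nat.Prime 3) := ⟨Nat.prime_three⟩
  haveI := CfsgLib.FusionExamples.pResidual_normal 2 G
  refine (inferInstance : (pResidual 2 G).Normal).eq_bot_or_eq_top.resolve_left fun h => ?_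
  obtain ⟨x, hx⟩ := exists_prime_orderOf_dvd_card' 3 h3
  have hm : x ∈ pResidual 2 G := Subgroup.subset_closure (by
    show Nat.Coprime (orderOf x) 2
    rw [hx]; norm_num)
  rw [h, Subgroup.mem_bot] at hm
  rw [hm, orderOf_one] at hx
  omega

end CfsgLib.Involutions.GLTwoThree
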