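/-
The group SL(3,3) has an involution with centralizer GL(2,3).
-/
import Cfsg.Agent.Lib.Involutions.GLTwoThree.Plane
import Cfsg.Agent.Lib.Involutions.GLTwoThree.Simple
import Cfsg.Agent.Lib.ClassicalLinear.Card
import Cfsg.Agent.Lib.ClassicalLinear.Simple

set_option autoImplicit false

open Cfsg Matrix

namespace CfsgLib.Involutions.GLTwoThree.Model

/-- The group `SL(3,3)`. -/
abbrev H : Type := Matrix.SpecialLinearGroup (Fin 3) (ZMod 3)

theorem sq_eq_one : ∀ r : ZMod 3, r ≠ 0 → r * r = 1 := by decide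

theorem center_eq_bot : Subgroup.center H = ⊥ := by
  rw [eq_bot_iff]
  intro z hz
  obtain ⟨r, hr, hrz⟩ := Matrix.SpecialLinearGroup.mem_center_iff.1 hz
  have : ∀ r : ZMod 3, r ^ Fintype.card (Fin 3) = 1 → r = 1 := by decide
  rw [this r hr, map_one] at hrz
  exact Subgroup.mem_bot.2 (Subtype.ext hrz.symm)

/-- `PSL(3,3)` is `SL(3,3)`. -/
noncomputable def pslEquiv : Matrix.ProjectiveSpecialLinearGroup (Fin 3) (ZMod 3) ≃* H :=
  (QuotientGroup.quotientMulEquivOfEq center_eq_bot).trans QuotientGroup.quotientBot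

theorem card_H : Nat.card H = 5616 := by
  haveI : Fact (Nat.Prime 3) := ⟨by norm_num⟩
  have h := CfsgLib.ClassicalLinear.card_SL (ι := Fin 3) (F := ZMod 3)
  rw [ZMod.card, Fintype.card_fin] at h
  simp [Fin.prod_univ_three] at h
  have h5 : Fintype.card (Matrix.SpecialLinearGroup (Fin 3) (ZMod 3)) = 5616 := by omega
  rw [Nat.card_eq_fintype_card]
  convert h5 using 2

theorem isSimple : IsSimpleGroup H := by
  haveI : Fact (Nat.Prime 3) := ⟨by norm_num⟩
  haveI := CfsgLib.ClassicalLinear.isSimpleGroup_psl_of_three_le (ι := Fin 3) (F := ZMod 3)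
    (by simp)
  haveI := pslEquiv.symm.toEquiv.nontrivial
  exact MulEquiv.isSimpleGroup pslEquiv.symm

/-- The involution. -/
def t₀ : H := ⟨!![-1, 0, 0; 0, -1, 0; 0, 0, 1], by decide⟩

/-- The block of a two by two matrix. -/
def block (g : Matrix (Fin 2) (Fin 2) (ZMod 3)) : Matrix (Fin 3) (Fin 3) (ZMod 3) :=
  !![g 0 0, g 0 1, 0; g 1 0, g 1 1, 0; 0, 0, g 0 0 * g 1 1 - g 0 1 * g 1 0]

theorem block_mul (g h : Matrix (Fin 2) (Fin 2) (ZMod 3)) :
    block (g * h) = block g * block h := by
  ext i j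
  fin_cases i <;> fin_cases j <;>
    simp [block, Matrix.mul_apply, Fin.sum_univ_succ] <;> ring

/-- The embedding of `GL(2,3)`. -/
def emb : M →* Subgroup.centralizer ({t₀} : Set H) where
  toFun g := ⟨⟨block g, by
      have h : (g : Matrix (Fin 2) (Fin 2) (ZMod 3)).det ≠ 0 := g.det_ne_zero
      rw [Matrix.det_fin_two] at h
      rw [Matrix.det_fin_three]
      simp only [block, Matrix.of_apply, Matrix.cons_val', Matrix.cons_val, Matrix.cons_val_fin_one]
      linear_combination sq_eq_one _ h⟩,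
    Subgroup.mem_centralizer_singleton_iff.2 (Subtype.ext (by
      show block g * !![-1, 0, 0; 0, -1, 0; 0, 0, 1] = !![-1, 0, 0; 0, -1, 0; 0, 0, 1] * block g
      ext i j
      fin_cases i <;> fin_cases j <;> simp [block, Matrix.mul_apply, Fin.sum_univ_succ]))⟩
  map_one' := Subtype.ext (Subtype.ext (by
    show block ((1 : M) : Matrix (Fin 2) (Fin 2) (ZMod 3)) = 1
    rw [Units.val_one]
    ext i j
    fin_cases i <;> fin_cases j <;> simp [block]))
  map_mul' g h := Subtype.ext (Subtype.ext (by
    show block ((g * h : M) : Matrix (Fin 2) (Fin 2) (ZMod 3)) = block g * block h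
    rw [Units.val_mul, block_mul]))

theorem emb_bijective : Function.Bijective emb := by
  constructor
  · intro g h e
    have e' : block g = block h :=
      congrArg (fun x : Subgroup.centralizer ({t₀} : Set H) => x.1.1) e
    refine Units.ext (Matrix.ext fun i j => ?_)
    fin_cases i <;> fin_cases j
    · exact congrFun (congrFun e' 0) 0
    · exact congrFun (congrFun e' 0) 1
    · exact congrFun (congrFun e' 1) 0
    · exact congrFun (congrFun e' 1) 1
  · intro x
    obtain ⟨m, hm, hc, rfl⟩ : ∃ (m : Matrix (Fin 3) (Fin 3) (ZMod 3)) (hm : m.det = 1)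
        (hc : (⟨m, hm⟩ : H) ∈ Subgroup.centralizer ({t₀} : Set H)), x = ⟨(⟨m, hm⟩ : H), hc⟩ :=
      ⟨x.1.1, x.1.2, x.2, rfl⟩
    have hc' : m * !![-1, 0, 0; 0, -1, 0; 0, 0, 1] = !![-1, 0, 0; 0, -1, 0; 0, 0, 1] * m :=
      congrArg Subtype.val ((Subgroup.mem_centralizer_singleton_iff (G := H)).1 hc)
    have key : ∀ r : ZMod 3, r = -r → r = 0 := by decide
    have h02 : m 0 2 = 0 := key _ (by
      have := congrFun (congrFun hc' 0) 2
      simpa [Matrix.mul_apply, Fin.sum_univ_succ] using this)
    have h12 : m 1 2 = 0 := key _ (by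
      have := congrFun (congrFun hc' 1) 2
      simpa [Matrix.mul_apply, Fin.sum_univ_succ] using this)
    have h20 : m 2 0 = 0 := key _ (by
      have := congrFun (congrFun hc' 2) 0
      simpa [Matrix.mul_apply, Fin.sum_univ_succ] using this.symm)
    have h21 : m 2 1 = 0 := key _ (by
      have := congrFun (congrFun hc' 2) 1
      simpa [Matrix.mul_apply, Fin.sum_univ_succ] using this.symm)
    have hdet : (m 0 0 * m 1 1 - m 0 1 * m 1 0) * m 2 2 = 1 := by
      rw [Matrix.det_fin_three, h02, h12, h20, h21] at hm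
      linear_combination hm
    let g : Matrix (Fin 2) (Fin 2) (ZMod 3) := !![m 0 0, m 0 1; m 1 0, m 1 1]
    have hg : g.det ≠ 0 := by
      intro h
      rw [Matrix.det_fin_two] at h
      have h' : m 0 0 * m 1 1 - m 0 1 * m 1 0 = 0 := h
      rw [h', zero_mul] at hdet
      exact zero_ne_one hdet
    haveI : Fact (Nat.Prime 3) := ⟨by norm_num⟩
    refine ⟨Matrix.GeneralLinearGroup.mkOfDetNeZero g hg, Subtype.ext (Subtype.ext ?_)⟩
    show block g = m
    have h22 : m 0 0 * m 1 1 - m 0 1 * m 1 0 = m 2 2 := by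
      have key2 : ∀ a b : ZMod 3, a * b = 1 → a = b := by decide +revert
      exact key2 _ _ hdet
    ext i j
    fin_cases i <;> fin_cases j <;> simp [block, g, h02, h12, h20, h21, h22]

theorem t₀_order : orderOf t₀ = 2 := by
  haveI : Fact (Nat.Prime 2) := ⟨Nat.prime_two⟩
  exact orderOf_eq_prime (Subtype.ext (by decide)) (fun h => absurd (congrArg Subtype.val h) (by decide))

/-- The model as a setup. -/
noncomputable def setup : Setup H where
  t := t₀
  e := (MulEquiv.ofBijective emb emb_bijective).symm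
  ht := t₀_order
  hone x hx := by
    haveI := isSimple
    exact isConj_involution (MulEquiv.ofBijective emb emb_bijective).symm t₀_order
      (pResidual_eq_top_of_simple (by rw [card_H]; norm_num)) hx
  simple := isSimple
  hcard := card_H

/-- A group as in `Setup` is `PSL(3,3)`. -/
theorem nonempty_psl {G : Type*} [Group G] [Fintype G] (S : Setup G) :
    Nonempty (G ≃* Matrix.ProjectiveSpecialLinearGroup (Fin 3) (ZMod 3)) := by
  obtain ⟨a⟩ := S.nonempty_equiv
  obtain ⟨b⟩ := setup.nonempty_equiv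
  exact ⟨(a.trans b.symm).trans pslEquiv.symm⟩

end CfsgLib.Involutions.GLTwoThree.Model
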